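import Cfsg.Agent.J4C.Lib4

set_option autoImplicit false
set_option linter.style.haveILetI false

/-! The normal subgroup `2 ^ 11` is determined inside a Sylow subgroup. -/

namespace Cfsg.Agent.J4C

open Equiv Cfsg.Agent.CGT

theorem fix_step {K : Type*} [Group K] {B : Subgroup K} (hc : ∀ a ∈ B, ∀ b ∈ B, a * b = b * a)
    (he : ∀ a ∈ B, a * a = 1) {g : K} (hg : ∀ a ∈ B, g * a * g⁻¹ ∈ B)
    (h : ∃ a ∈ B, a ≠ 1 ∧ Commute (g * g) a) : ∃ b ∈ B, b ≠ 1 ∧ Commute g b := by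
  obtain ⟨a, ha, h1, h2⟩ := h
  by_cases h3 : a * (g * a * g⁻¹) = 1
  · refine ⟨a, ha, h1, ?_⟩
    rw [← he a ha, mul_right_inj, mul_inv_eq_iff_eq_mul] at h3
    exact h3
  · refine ⟨_, B.mul_mem ha (hg a ha), h3, ?_⟩
    show g * (a * (g * a * g⁻¹)) = a * (g * a * g⁻¹) * g
    rw [hc a ha _ (hg a ha)]
    calc g * (g * a * g⁻¹ * a) = g * g * a * g⁻¹ * a := by group
      _ = a * (g * g) * g⁻¹ * a := by rw [h2.eq]
      _ = a * (g * a * g⁻¹) * g * (g⁻¹ * (g * a⁻¹ * g⁻¹) * g * a) * 1 := by group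
      _ = _ := by
        rw [hc a ha _ (hg a ha)]
        group

/-- A split extension acting on the normal subgroup by affine maps. -/
structure Aff {M K : Type*} [Group M] [Group K] (π : M →* K) (σ : K →* M) (φ : M →* Perm ℕ) :
    Prop where
  sec : ∀ k, π (σ k) = k
  comm : ∀ a ∈ π.ker, ∀ b ∈ π.ker, a * b = b * a
  sq : ∀ a ∈ π.ker, a * a = 1
  fix0 : ∀ k, φ (σ k) 0 = 0
  stab : ∀ m, φ m 0 = 0 → m ∈ σ.range
  card : Nat.card π.ker = 2048

section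
variable {M K : Type*} [Group M] [Group K] {π : M →* K} {σ : K →* M} {φ : M →* Perm ℕ}

theorem Aff.inj (h : Aff π σ φ) {a b : M} (ha : a ∈ π.ker) (hb : b ∈ π.ker)
    (e : φ a 0 = φ b 0) : a = b := by
  obtain ⟨k, hk⟩ := h.stab (b⁻¹ * a) (by rw [map_mul, Perm.mul_apply, e, map_inv, perm_inv_apply])
  have h1 := h.sec k
  rw [hk, map_mul, map_inv, ha, hb, mul_one, inv_one] at h1
  rw [← h1, map_one] at hk
  exact (inv_mul_eq_one.1 hk.symm).symm

theorem Aff.dec (h : Aff π σ φ) (b : M) : b * (σ (π b))⁻¹ ∈ π.ker := by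
  rw [MonoidHom.mem_ker, map_mul, map_inv, h.sec, mul_inv_cancel]

theorem Aff.fixes (h : Aff π σ φ) {b v : M} (hv : v ∈ π.ker) (e : b * v = v * b) :
    φ (σ (π b)) (φ v 0) = φ v 0 := by
  have h1 := h.comm _ (h.dec b) v hv
  have h2 : σ (π b) * v = v * σ (π b) := by
    have h3 : b * (σ (π b))⁻¹ * (σ (π b) * v) = b * (σ (π b))⁻¹ * (v * σ (π b)) := by
      rw [← mul_assoc _ v, h1]
      simpa [mul_assoc] using e
    exact mul_left_cancel h3
  rw [← Perm.mul_apply, ← map_mul, h2, map_mul, Perm.mul_apply, h.fix0]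

theorem Aff.char (h : Aff π σ φ) [Finite M] {u n : K} (hu : u ^ 8 = 1)
    (hC : ∀ c, Commute c u → c * c = 1 → c ≠ 1 → c = u ^ 4 ∨ c * (n * c * n⁻¹) = u ^ 4)
    {F : List ℕ}
    (hF : ∀ p ∈ F, ∃ s ∈ π.ker, φ (s * σ (u ^ 4) * s⁻¹ * (σ (u ^ 4))⁻¹) 0 = p)
    (hR : Nat.card (St φ ⊤ F) ≤ 16) {r : M} (hr : r ∈ St φ ⊤ F) {T1 T2 : Finset ℕ}
    (h1 : ∀ m : M, φ (σ (u ^ 4)) (φ m 0) = φ m 0 → φ m 0 ∈ T1) (c1 : T1.card ≤ 128)
    (h2 : ∀ m : M, φ (σ (u ^ 4)) (φ m 0) = φ m 0 → φ r (φ m 0) = φ m 0 → φ m 0 ∈ T2)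
    (c2 : T2.card ≤ 64) {A : Subgroup M} (hA : Nat.card A = 2048)
    (Ac : ∀ a ∈ A, ∀ b ∈ A, a * b = b * a) (Ae : ∀ a ∈ A, a * a = 1)
    (AV : ∀ v ∈ π.ker, ∀ a ∈ A, v * a * v⁻¹ ∈ A) (Au : ∀ a ∈ A, σ u * a * (σ u)⁻¹ ∈ A)
    (An : ∀ a ∈ A, σ n * a * (σ n)⁻¹ ∈ A) : A = π.ker := by
  refine Subgroup.eq_of_le_of_card_ge ?_ (by rw [hA, h.card])
  by_contra hn
  obtain ⟨a0, ha0, hb0⟩ := SetLike.not_le_iff_exists.1 hn
  have Bc : ∀ a ∈ A.map π, ∀ b ∈ A.map π, a * b = b * a := by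
    rintro _ ⟨a, ha, rfl⟩ _ ⟨b, hb, rfl⟩
    rw [← map_mul, Ac a ha b hb, map_mul]
  have Be : ∀ a ∈ A.map π, a * a = 1 := by
    rintro _ ⟨a, ha, rfl⟩
    rw [← map_mul, Ae a ha, map_one]
  have Bu : ∀ n : ℕ, ∀ a ∈ A.map π, u ^ n * a * (u ^ n)⁻¹ ∈ A.map π := fun n => by
    induction n with
    | zero => simp
    | succ n ih =>
      intro a ha
      obtain ⟨b, hb, e⟩ := ih a ha
      refine ⟨_, Au b hb, ?_⟩
      rw [map_mul, map_mul, map_inv, h.sec, e]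
      group
  obtain ⟨b, hb, b1, b2⟩ := fix_step Bc Be (Bu 1) (by
    rw [← pow_add]
    refine fix_step Bc Be (Bu 2) ?_
    rw [← pow_add]
    refine fix_step Bc Be (Bu 4) ⟨π a0, ⟨a0, ha0, rfl⟩, hb0, ?_⟩
    rw [← pow_add, hu]
    exact Commute.one_left _)
  obtain ⟨a, ha, ea⟩ : u ^ 4 ∈ A.map π := by
    rcases hC b (by rw [pow_one] at b2; exact b2.symm) (Be b hb) b1 with e | e
    · exact e ▸ hb
    · obtain ⟨a, ha, rfl⟩ := hb
      refine e ▸ (A.map π).mul_mem ⟨a, ha, rfl⟩ ⟨_, An a ha, ?_⟩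
      rw [map_mul, map_mul, map_inv, h.sec]
  let f := π.comp A.subtype
  have hcard : Nat.card f.ker * Nat.card f.range = 2048 := by
    rw [← hA, ← Subgroup.index_ker, Subgroup.card_mul_index]
  have hk : ∀ T : Finset ℕ, (∀ v : f.ker, φ (v : A) 0 ∈ T) → Nat.card f.ker ≤ T.card := fun T hT => by
    rw [← Nat.card_eq_finsetCard]
    exact Nat.card_le_card_of_injective (fun v : f.ker => (⟨_, hT v⟩ : T)) fun v w e =>
      Subtype.ext (Subtype.ext (h.inj v.2 w.2 (congrArg Subtype.val e)))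
  have hz : ∀ v : f.ker, φ (σ (u ^ 4)) (φ (v : A) 0) = φ (v : A) 0 := fun v =>
    ea ▸ h.fixes v.2 (Ac a ha _ (v : A).2)
  have hS : ∀ c : A, σ (π c) ∈ St φ ⊤ F := fun c => ⟨trivial, fun p hp => by
    obtain ⟨s, hs, rfl⟩ := hF p hp
    have e1 : s * σ (u ^ 4) * s⁻¹ * (σ (u ^ 4))⁻¹ = s * a * s⁻¹ * a⁻¹ := by
      have e2 := h.comm _ (h.dec a) _ (π.normal_ker.conj_mem _ (π.ker.inv_mem hs) (σ (u ^ 4)))
      rw [ea] at e2
      calc _ = s * (σ (u ^ 4) * s⁻¹ * (σ (u ^ 4))⁻¹ * (a * (σ (u ^ 4))⁻¹)) * (σ (u ^ 4) * a⁻¹) := by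
            group
        _ = _ := by rw [← e2]; group
    have e3 : s * a * s⁻¹ * a⁻¹ ∈ π.ker := by
      rw [mul_assoc, mul_assoc, ← mul_assoc a]
      exact π.ker.mul_mem hs (π.normal_ker.conj_mem _ (π.ker.inv_mem hs) a)
    rw [e1]
    exact h.fixes e3 (Ac _ c.2 _ (A.mul_mem (AV s hs a ha) (A.inv_mem ha)))⟩
  haveI : Finite (St φ ⊤ F) := inferInstance
  let g : f.range → St φ ⊤ F := fun x => ⟨σ x, by obtain ⟨_, c, rfl⟩ := x; exact hS c⟩
  have hg : Function.Injective g := fun x y e => Subtype.ext (by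
    rw [← h.sec x, ← h.sec y]; exact congrArg π (congrArg Subtype.val e))
  have k1 := (hk T1 fun v => h1 _ (hz v)).trans c1
  have k2 := Nat.card_le_card_of_injective g hg
  have hsurj : Function.Surjective g :=
    (Nat.bijective_iff_injective_and_card g).2 ⟨hg, by nlinarith⟩ |>.2
  obtain ⟨⟨_, c, rfl⟩, e⟩ := hsurj ⟨r, hr⟩
  have e' : σ (π c) = r := congrArg Subtype.val e
  have k3 := (hk T2 fun v => h2 _ (hz v) (e' ▸ h.fixes v.2 (Ac _ c.2 _ (v : A).2))).trans c2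
  nlinarith

end

/-- An automorphism may be adjusted so that it induces an automorphism of `M`. -/
theorem norm_M {G M : Type*} [Group G] [Group M] [Finite G] {j : M →* G}
    (hj : Function.Injective j) {V : Subgroup M} [V.Normal] (Vc : ∀ a ∈ V, ∀ b ∈ V, a * b = b * a)
    (Ve : ∀ a ∈ V, a * a = 1) {u n : M} (hu : u ^ 8 = 1) (hn2 : n ^ 2 = 1)
    (hun : n * u * n⁻¹ = u ^ 3) (hfix : ∀ g : G, (∀ v ∈ V, g⁻¹ * j v * g ∈ j.range) → g ∈ j.range)
    (hch : ∀ A : Subgroup M, Nat.card A = Nat.card V → (∀ a ∈ A, ∀ b ∈ A, a * b = b * a) →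
      (∀ a ∈ A, a * a = 1) → (∀ v ∈ V, ∀ a ∈ A, v * a * v⁻¹ ∈ A) → (∀ a ∈ A, u * a * u⁻¹ ∈ A) →
      (∀ a ∈ A, n * a * n⁻¹ ∈ A) → A = V)
    (α : MulAut G) : ∃ (g : G) (β : MulAut M), ∀ m, (MulAut.conj g * α) (j m) = j (β m) := by
  haveI : Fact (Nat.Prime 2) := ⟨Nat.prime_two⟩
  haveI : Finite M := Finite.of_injective j hj
  have p1 : IsPGroup 2 V := fun v => ⟨1, Subtype.ext (by simpa [sq] using Ve v v.2)⟩
  have p2 : ∀ (u : M) (e : ℕ), u ^ 2 ^ e = 1 → IsPGroup 2 (Subgroup.zpowers u) := by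
    rintro u e hu ⟨_, n, rfl⟩
    refine ⟨e, Subtype.ext ?_⟩
    show (u ^ n) ^ 2 ^ e = 1
    rw [← zpow_natCast, ← zpow_mul, mul_comm, zpow_mul, zpow_natCast, hu, one_zpow]
  have p3 : IsPGroup 2 (Subgroup.zpowers u ⊔ Subgroup.zpowers n : Subgroup M) := by
    refine (p2 u 3 hu).to_sup_of_normal_left' (p2 n 1 hn2) ((Subgroup.zpowers_le).2 ?_)
    refine Subgroup.mem_normalizer_fintype ?_
    rintro _ ⟨i, rfl⟩
    refine ⟨3 * i, ?_⟩
    show u ^ (3 * i) = n * u ^ i * n⁻¹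
    rw [← conj_zpow, hun, zpow_mul, zpow_ofNat]
  obtain ⟨P, hP⟩ := ((p1.to_sup_of_normal_left p3).map j).exists_le_sylow
  have hV : ∀ v ∈ V, j v ∈ P := fun v hv => hP ⟨v, Subgroup.mem_sup_left hv, rfl⟩
  have hU : j u ∈ P :=
    hP ⟨u, Subgroup.mem_sup_right (Subgroup.mem_sup_left (Subgroup.mem_zpowers u)), rfl⟩
  have hN : j n ∈ P :=
    hP ⟨n, Subgroup.mem_sup_right (Subgroup.mem_sup_right (Subgroup.mem_zpowers n)), rfl⟩
  have hPM : ∀ x ∈ P, x ∈ j.range := by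
    haveI := P.2.isNilpotent
    have hn := normalizerCondition_iff_only_full_group_self_normalizing.1
      (Group.normalizerCondition_of_isNilpotent (G := P)) (j.range.subgroupOf P)
      (le_antisymm (fun (x : P) hx => Subgroup.mem_subgroupOf.2 (hfix x fun v hv => ?_))
        Subgroup.le_normalizer)
    · intro x hx
      exact (hn ▸ Subgroup.mem_top (⟨x, hx⟩ : P) : (⟨x, hx⟩ : P) ∈ j.range.subgroupOf P)
    · have := (Subgroup.mem_normalizer_iff''.1 hx ⟨j v, hV v hv⟩).1 ⟨v, rfl⟩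
      exact this
  obtain ⟨g, hg⟩ := MulAction.exists_smul_eq G (α • P) P
  rw [Sylow.smul_def, ← mul_smul] at hg
  refine ⟨g, ?_⟩
  generalize MulAut.conj g * α = a at hg
  have a1 : ∀ x, a x ∈ P ↔ x ∈ P := fun x => by
    conv_lhs => rw [← hg]
    exact Subgroup.smul_mem_pointwise_smul_iff
  let A : Subgroup M := (V.map (a.toMonoidHom.comp j)).comap j
  have hle : V.map (a.toMonoidHom.comp j) ≤ j.range := by
    rintro _ ⟨v, hv, rfl⟩
    exact hPM _ ((a1 _).2 (hV v hv))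
  have hn : ∀ n, j n ∈ P → ∀ m ∈ A, n * m * n⁻¹ ∈ A := fun n hn m ⟨v, hv, e⟩ => by
    obtain ⟨n', e'⟩ := hPM (a.symm (j n)) ((a1 _).1 (by rwa [a.apply_symm_apply]))
    refine ⟨_, Subgroup.Normal.conj_mem inferInstance v hv n', ?_⟩
    have e2 : a (j n') = j n := by rw [e', a.apply_symm_apply]
    have e3 : a (j v) = j m := e
    show a (j _) = _
    simp only [map_mul, map_inv, e2, e3]
  have hA : A = V := by
    refine hch A ?_ ?_ ?_ (fun v hv => hn v (hV v hv)) (hn u hU) (hn n hN)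
    · rw [← Subgroup.card_map_of_injective (K := A) hj, Subgroup.map_comap_eq_self hle,
        Subgroup.card_map_of_injective (a.injective.comp hj)]
    · rintro x ⟨v, hv, e⟩ y ⟨w, hw, e'⟩
      apply hj
      rw [map_mul, map_mul, ← e, ← e', ← map_mul, Vc v hv w hw, map_mul]
    · rintro x ⟨v, hv, e⟩
      apply hj
      rw [map_mul, ← e, ← map_mul, Ve v hv, map_one, map_one]
  have hM : ∀ m, a (j m) ∈ j.range := fun m => hfix _ fun v hv => by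
    obtain ⟨v', hv', e⟩ : v ∈ A := hA ▸ hv
    have e3 : a (j v') = j v := e
    have := hle ⟨_, Subgroup.Normal.conj_mem inferInstance v' hv' m⁻¹, rfl⟩
    simpa [e3] using this
  let f : M →* M := (MonoidHom.ofInjective hj).symm.toMonoidHom.comp
    ((a.toMonoidHom.comp j).codRestrict j.range hM)
  have hf : ∀ m, j (f m) = a (j m) := fun m => MonoidHom.apply_ofInjective_symm hj _
  have hi : Function.Injective f := fun x y e => hj (a.injective (by rw [← hf, ← hf, e]))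
  exact ⟨MulEquiv.ofBijective f ⟨hi, Finite.injective_iff_surjective.1 hi⟩, fun m => (hf m).symm⟩

end Cfsg.Agent.J4C
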