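import Cfsg.Agent.J4C.Cert

set_option autoImplicit false
set_option Elab.async false
set_option maxRecDepth 100000
set_option linter.all false

namespace Cfsg.Agent.J4C
open Cfsg.Agent.CGT

noncomputable def cx_l0 : Level := ⟨0, [[0], [2], [4], [6], [8], [10], [12], [14], [16], [18]], [1, 2, 3, 4, 5, 6, 8, 2, 7, 3, 9, 1, 7, 5, 6], 0x7fffffffffffffffffffffffffffffffffffffffffffffffffffffffffffffffffffffffffffffffffffffffffffffffffffffffffffffffffffffffffffffffffffffffffffffffffffffffffffffffffffffffffffffffffffffffffffffffffffffffffffffffffffffffffffffffffffffffffffffffffffffffffffffffffffffffffffffffffffffffffffffffffffffffffffffffffffffffffffffffffffffffffffffffffffffffffffffffffffffffffffffffffffffffffffffffffffffffffffffffffffffffffffffffffffffffffffffffffffffffffffffffffffffffffffffffffffffffffffffffffffffffffffffffff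fffffffffffffffffffffffffffffffffffffffffffffffffffffffffffffffffffffffffffffffffffffffffffffffffffffffffffffffffffffffffffffffffffffffffffffffffffffffffffffffffffffffffffffffffffffffffffffffffffffffffffffffffffffffffffffffffffffffffffffffffffffffffffffffffffffffffffffffffffffffffffffffffffffffffffffffffffffffffffffffffffffffffffffffffffffffffffffffffffffffffffffffffffffffffffffffffffffffffffffffffffffffffffffffffffffffffffffffffffffffffffffffffff, 3795⟩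
noncomputable def cx_l1 : Level := ⟨1267, [[19], [1]], [0, 1, 0, 0, 1, 0, 1, 0, 0, 1, 0, 1, 0, 1, 0, 1, 0, 1, 0, 1, 0, 1, 0, 1, 0, 1, 0, 0, 1, 0], 0x67dbbe27fe5dedfcefaf3fbe773f6f7ef5fdefbfbe77eb1effdebf6fdf1fef3ff8bffd37d5d7edbcd7bbfdcfde7bdff3d6e6f7af6dfffbef9dfffefcdde7ff7307ddf6ffafea7bf65e4ffeb6f95f4cff6b777efff6b776ffd3edf7ff7fd9ffb2d53bdc7ffedb3a5267e5e9bbefcbfb3ebffd6f3cbffdd2dfafe327fff5f7fbbfed7d7d7ffdfa4adffb9fedffed9e7a960df6d7b7f74ff3daffdf5ebbefdffcf77b7b7df9ff97efeffac7ff745fb7d7fcfbd1bfe3eb89759ffbe7fecfefed9bd5f515c869bcd72ffe7dfeb43fb3f76cff7f6a7b77fdeefffcfbd7f6fd6f77e5fffd6ff7effdbf6d71b777ad6ba7cbdb7febdfff6a5be747d2bcffbdf2efffea59ffafefe7e9ed3e7e37ff2df1ffedf9b5c6ddcfd6b2ec9fc9edeffd7abff9a8dbb9e87c9af5fddb7e5dffff6b5cffdafeff9fa3ed3ebf0f7ff5fdf7f9efd1b4dac637bfe3ebbf7a27ef77fff5ee9b5ffbffe3d9bf47fadbdff3dfd1b33cd98637cffa3f4d7eb7457fbddffbfaf7b36bfb74fffc7ecefd1faa35b7a973f7a7f6ec9e7ee23bdc4d013fd777ea98d6deb2f3fbd3fb6b279fde23bed132027faeea126ef6ce0ade9bbfdda7dc3619371ed9c82b7a71abfeed3ee1f3f877ff25551aef3f876ef725551ae4535e847469af488ff99bfe66fe7f3de3a3320,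 2688⟩
noncomputable def cx_l2 : Level := ⟨1492, [[19, 8, 4, 14, 8, 4], [14, 9, 17, 8, 10, 4], [0, 14, 9, 14, 19, 15, 3]], [], 0x8000000000000000000000004000000000000000000000000000000040004000000000000000000000020000000000000004001000000000000000000000000000000002000000000000000000000000000000000000000000000000000002000000000000000100000000000000000000000000000000000000000000000000000000000000000000000000000000000000000000000000000000000000000000000000000000000000000000000000000000000000000000000000000000000002000000000000000000000000000000800000000000000000000000000000000000000800000000000000000000000000000400020200000000000000000000000000000000000000000000000000000000000000000000810000000000000000000000000000020000000000000000000000000000000000000004000000000000000000000000000000000000000000000000000000000000000000000000000000002000100000000000000000000000000000000000000000000000000000000000000000000000000000000000000000000000000000000000000000000000000000000000000000000000000000010000000000000000000000000000000000000000000000000004000000000000000,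 24⟩
noncomputable def cx_ls : List Level := [cx_l0, cx_l1, cx_l2]
noncomputable def cx_S : Srch := ⟨12, m_ts, (chainBase [] c_ls), [12, 7, 13, 6], [12, 7, 13, 6], []⟩
noncomputable def cx_lk : List ℕ := [1, 1268]
noncomputable def cx_tl : List Level := [cx_l1, cx_l2]
noncomputable def cx_R0 : ℕ := 0x2000000000000000000020000000000000000000000000000000000000000000000000000000000000000000000000000000000000000000000000000000000000000000000000000000000000000000000000000000000000000000000000000000000000000000000000000000010000000000000000000000000000000000000000000000000000000000000000000000000000000000000000100000000000000000000000000001000000000000080000000000000000000002000008000200000000000000000000000000000000000000000000000000000000000010000040000000000000000000000000001000000006000403041000000000000000000000000000010000000000404800400000002000000800008000400000000000000000c000080080000001000202818240022010001001008000802a2000010000000024000020812020800a001488202220080044022001211500112a0251e8451810fc88b502330312220d6c1eefff6ac545f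
noncomputable def g_Ws : List (List ℕ) := [[12, 7, 13, 6], [4, 2, 12, 7, 13, 6, 3, 5], [8, 4, 8, 4, 17, 0, 10], [9, 15, 6, 17, 15, 9, 18, 12], [18, 5, 0, 9, 14, 18, 15, 9], [14, 5, 8, 15, 8, 16, 4, 2], [4, 15, 2, 17, 9, 7, 4], [14, 0, 15, 3, 8, 15, 6, 0], [17, 11, 0, 17, 8, 10, 12, 3], [13, 6, 14, 6, 8, 17, 0, 2], [0], [2], [4], [6], [8], [10], [12], [14], [16], [18]]
theorem cx_l0_ok : (ptsOK 12 [] && (wordsIn [0, 2, 4, 6, 8, 10, 12, 14, 16, 18] cx_l0.S && cx_l0.ok 12 m_ns m_ts [])) = true := by decide +kernel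
theorem cx_l1_ok : (ptsOK 12 [0] && (wordsIn [0, 2, 4, 6, 8, 10, 12, 14, 16, 18] cx_l1.S && cx_l1.ok 12 m_ns m_ts [0])) = true := by decide +kernel
theorem cx_l2_ok : cx_l2.okT 12 m_ts [0, 2, 4, 6, 8, 10, 12, 14, 16, 18] [1267, 0] (.cons [0] (.cons [2] (.cons [0] .nil (.cons [4] .nil (.cons [5] .nil .nil))) (.cons [4] (.cons [2] .nil .nil) (.cons [5] .nil .nil))) (.cons [2] (.cons [0] (.cons [2] .nil (.cons [4] .nil (.cons [5] .nil .nil))) (.cons [4] (.cons [2] .nil .nil) (.cons [5] (.cons [2] .nil .nil) .nil))) (.cons [4] (.cons [2] (.cons [0] .nil (.cons [5] .nil .nil)) .nil) (.cons [5] (.cons [2] .nil .nil) .nil)))) = true := by decide +kernel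
theorem cx_aux : cx_S.auxB [0, 2, 4, 6, 8, 10, 12, 14, 16, 18] cx_ls [] (0 :: cx_lk) = true := by decide +kernel
theorem cx_cov : Nat.beq (Nat.land cx_l0.O (Srch.cover m_ns (invW cx_S.u') cx_R0 22)) cx_l0.O = true := by decide +kernel
theorem cx_r0 : cx_S.run (.cons [] (.cons [] (.cons [] (.leaf 2000) .nil) .nil) (.cons [2] (.cons [0, 2, 1, 2, 1, 1, 2, 0, 2, 0, 2, 1, 1, 2, 0, 2] .nil .nil) (.cons [3] .nil (.cons [4] (.cons [0, 0, 2, 0, 2, 0, 2, 0, 2, 0, 2, 0, 0, 2, 0, 0] .nil .nil) (.cons [5] (.cons [2, 0, 2, 1, 1, 2, 1, 2, 1, 1, 2, 0] .nil .nil) (.cons [6] .nil (.cons [7] .nil (.cons [8] (.cons [2, 0, 0, 2, 0, 2, 1] .nil .nil) (.cons [9] (.cons [2, 0, 2, 1, 2, 1, 2, 0, 2, 0, 2, 0, 2, 0, 2, 0, 2, 1] .nil .nil) (.cons [10] (.cons [0, 2, 0, 2, 1, 2, 1, 2, 1, 2, 0, 0, 2, 1, 2, 1] .nil .nil) (.cons [11] .nil (.cons [12] .nil (.cons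 [13] (.cons [1, 2, 1, 2, 0, 0, 2, 1, 2, 0, 2] .nil .nil) (.cons [14] (.cons [1, 1, 2, 1, 1, 2, 1, 1, 2, 0, 2, 0, 2, 1] .nil .nil) (.cons [15] (.cons [0, 2, 0, 2, 0, 2, 0, 2, 0, 0, 2, 0, 0, 2, 0, 0] .nil .nil) (.cons [0, 3] .nil (.cons [4, 3] .nil (.cons [5, 3] .nil (.cons [8, 3] (.cons [2, 0, 0, 2, 0, 0, 2, 1, 1, 2, 0, 0, 2, 1] .nil .nil) (.cons [11, 3] (.cons [1, 2, 0, 2, 1, 2, 0, 2, 1, 1, 2, 1, 2] .nil .nil) (.cons [12, 3] (.cons [2, 0, 2, 0, 2, 0, 2, 0, 2, 1, 2, 1, 2, 0, 0, 2] .nil .nil) (.cons [13, 3] (.cons [0, 0, 2, 1, 2, 0, 2, 1, 1, 2, 0, 2] .nil .nil) (.cons [14, 3] (.cons [0, 2, 0, 2, 0, 2, 0, 2, 0, 0] .nil .nil) (.cons [15, 3] (.cons [0, 0, 2, 1, 2, 1, 2, 1, 2, 1, 2, 1, 2, 0, 0] .nil .nil) (.cons [16, 3] (.cons [1, 2, 0, 2, 0, 2, 1, 2, 0, 0, 2, 1, 2, 0, 2] .nil .nil) (.cons [17, 3] (.cons [0, 2, 0, 2, 1, 2, 1, 2,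 0, 2, 0, 0, 2, 1] .nil .nil) (.cons [18, 3] (.cons [1, 2, 1, 2, 0, 2, 0, 2, 1, 2, 0, 2, 0, 0] .nil .nil) (.cons [0, 2] (.cons [0, 2, 0, 2, 0, 2, 0, 2, 0, 0, 2, 0, 0] .nil .nil) (.cons [4, 2] (.cons [0, 2, 0, 2, 0, 2, 0, 2, 1, 1, 2, 0, 2] (.cons [2, 5] (.leaf 3) .nil) .nil) (.cons [5, 2] (.cons [2, 0, 0, 2, 1, 2, 1, 2, 0, 2, 1, 2] .nil .nil) (.cons [6, 2] .nil (.cons [7, 2] (.cons [2, 1, 2, 0, 0, 2, 1, 2, 1] .nil .nil) (.cons [8, 2] (.cons [2, 0, 0, 2, 0, 0, 2, 0, 0] .nil .nil) (.cons [10, 2] (.cons [2, 1, 2, 0, 2, 0] .nil .nil) (.cons [12, 2] (.cons [0, 0, 2, 1, 2, 0, 0, 2, 0, 2, 0, 2, 0, 0] .nil .nil) (.cons [13, 2] (.cons [0, 2, 1, 2, 1, 2, 1, 1, 2, 0, 2, 1, 2, 1] .nil .nil) (.cons [14, 2] .nil (.cons [17, 2] (.cons [1, 2, 0, 2, 0, 2, 0, 0, 2] .nil .nil) (.cons [18, 2] .nil (.cons [19, 2] (.cons [1, 2, 1, 2, 1, 2, 0, 2,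 1, 2, 0, 0] .nil .nil) (.cons [2, 17] (.cons [2, 1, 1, 2, 0, 2, 0, 2, 1, 1, 2, 0, 2] .nil .nil) (.cons [4, 17] (.cons [0, 2, 0, 0, 2, 0, 0, 2, 1, 2, 1, 2, 0, 2, 0] .nil .nil) (.cons [5, 17] .nil (.cons [7, 17] (.cons [1, 1, 2, 0, 2, 0, 2, 0, 2] .nil .nil) (.cons [10, 17] (.cons [2, 1, 2, 1, 2, 1, 2, 0, 2, 0, 2, 0] .nil .nil) (.cons [14, 17] (.cons [2, 0, 2, 1, 2, 1, 1, 2, 0, 2] .nil .nil) (.cons [15, 17] (.cons [0, 2, 0, 2, 1, 2, 1, 2, 1, 1, 2, 1, 2] .nil .nil) (.cons [18, 17] (.cons [2, 1, 1, 2, 0, 2, 1, 2, 0, 0, 2, 1, 2, 0, 2] .nil .nil) (.cons [19, 17] (.cons [2, 1, 2, 0, 2, 1, 2, 0, 2, 0, 2, 1, 2, 1] .nil .nil) (.cons [4, 8] (.cons [0, 2, 1, 2, 1, 2, 1, 2, 1, 2, 1] .nil .nil) (.cons [5, 8] .nil (.cons [7, 8] .nil (.cons [10, 8] .nil (.cons [11, 8] .nil (.cons [17, 8] .nil (.cons [2, 11] (.cons [2, 0, 2, 1, 1, 2, 0, 2,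 1, 1, 2, 0] .nil .nil) (.cons [6, 11] (.cons [0, 0, 2, 1, 2, 0, 2, 0, 0, 2, 1] .nil .nil) (.cons [7, 11] .nil (.cons [9, 11] .nil (.cons [13, 11] (.cons [2, 1, 2, 0, 2, 0, 2, 1, 2, 1, 2, 1, 2, 0, 0] .nil .nil) (.cons [15, 11] .nil (.cons [9, 5] (.cons [0, 0, 2, 0, 2, 0, 2, 0, 2, 0, 2, 0, 2] .nil .nil) (.cons [12, 5] (.cons [1, 2, 0, 2, 0, 2, 0, 2, 1, 1, 2, 0, 2, 1, 1, 2, 0] .nil .nil) (.cons [14, 5] .nil (.cons [15, 5] .nil (.cons [16, 5] (.cons [0, 2, 0, 2, 0, 2, 1, 1, 2, 0] .nil .nil) (.cons [18, 5] (.cons [1, 2, 1, 2, 1, 2, 1, 2, 1, 2, 0, 0] .nil .nil) (.cons [19, 5] .nil (.cons [6, 4] (.cons [0, 0, 2, 0, 0, 2, 0, 2, 1, 2, 0, 2, 0, 2, 0] .nil .nil) (.cons [8, 4] (.cons [1, 2, 1, 2, 0, 2, 0, 2, 1, 2, 1, 2, 1] .nil .nil) (.cons [9, 4] (.cons [0, 2, 0, 2, 1, 2, 1, 2, 0, 2, 1, 2, 0] .nil .nil) (.cons [14, 4] .nil (.cons [15,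 4] .nil (.cons [16, 4] (.cons [1, 2, 0, 2, 1, 2, 0, 0, 2, 1, 1, 2, 0] .nil .nil) (.cons [17, 4] .nil (.cons [0, 9] (.cons [0, 2, 0, 0, 2, 1, 2, 0, 2, 0, 2, 1, 2, 0, 0] .nil .nil) (.cons [4, 9] (.cons [0, 2, 1, 1, 2, 0, 2, 1, 1, 2, 0, 0, 2] .nil .nil) (.cons [5, 9] .nil (.cons [7, 9] .nil (.cons [4, 7] (.cons [2, 0, 0, 2, 0, 2, 1] .nil .nil) (.cons [7, 7] (.cons [0, 2, 0, 0, 2, 0, 2, 1, 2, 1, 2, 1, 1, 2, 0, 2] .nil .nil) (.cons [12, 7] (.cons [2, 1, 2, 0, 2, 1, 2, 0, 2, 1, 2, 0, 0] .nil .nil) (.cons [13, 7] (.cons [2, 1, 2, 1, 2, 1, 1, 2, 0, 2, 1, 2, 0, 2, 1] .nil .nil) (.cons [16, 7] (.cons [2, 1, 1, 2, 0, 2, 0, 2, 1, 1, 2, 1, 2] .nil .nil) (.cons [17, 7] (.cons [0, 2, 1, 2, 1, 2, 0, 2, 1, 2, 0, 2, 1, 2, 0] .nil .nil) (.cons [6, 12] .nil (.cons [9, 12] (.cons [2, 1, 2, 1, 2, 0, 2, 0, 2, 0, 2, 1, 2, 1] .nil .nil) (.cons [10,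 12] (.cons [1, 2, 0, 0, 2, 0, 2, 1, 1, 2, 0, 2, 0, 2, 0] .nil .nil) (.cons [19, 12] (.cons [2, 0, 0, 2, 0, 2, 0, 2, 1, 2, 1, 2, 1, 2, 0, 0] .nil .nil) (.cons [2, 6] (.cons [1, 2, 0, 2, 0, 2, 1, 1, 2, 1, 2, 0, 2, 0, 2, 1] .nil .nil) (.cons [4, 6] (.cons [2, 0, 2, 1, 2, 0, 2, 1, 1, 2, 1, 2, 0] .nil .nil) (.cons [5, 6] (.cons [2, 0, 2, 1, 1, 2, 1, 2, 0, 2, 1, 2, 0, 0] .nil .nil) (.cons [8, 6] .nil (.cons [9, 6] (.cons [2, 1, 2, 0, 2, 0, 2, 1] .nil .nil) (.cons [11, 6] (.cons [0, 2, 1, 1, 2, 1, 2, 0, 2, 1, 2, 0] .nil .nil) (.cons [13, 6] (.cons [1, 2, 1, 2, 1, 2, 1, 1, 2, 0, 0, 2] .nil .nil) (.cons [14, 6] (.cons [1, 2, 1, 2, 1, 2, 0, 0, 2, 0, 0] .nil .nil) (.cons [19, 6] .nil (.cons [0, 10] (.cons [1, 2, 0, 0, 2, 1, 2, 1, 2, 0, 2, 0, 2, 1] .nil .nil) (.cons [2, 10] (.cons [2, 0, 0, 2, 0, 2, 1, 1, 2, 0, 2, 0, 2, 0] .nil .nil)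 (.cons [4, 10] (.cons [0, 0, 2, 1, 2, 0, 2, 0, 2, 1, 2, 1, 2, 0, 2] .nil .nil) (.cons [7, 10] .nil (.cons [8, 10] (.cons [1, 2, 0, 2, 1, 2, 0] .nil .nil) (.cons [9, 10] (.cons [0, 2, 0, 2, 1, 2, 1, 2, 0, 2, 1, 1, 2, 0] .nil .nil) (.cons [13, 10] (.cons [2, 0] .nil .nil) (.cons [5, 13] (.cons [2, 0, 0, 2, 0, 2, 0, 2, 0, 2, 1] .nil .nil) (.cons [6, 13] (.cons [0, 2, 0, 0, 2, 1, 2, 0, 0, 2, 0, 2, 1, 2, 1, 2, 0, 2] .nil .nil) (.cons [7, 13] (.cons [1, 2, 1, 1, 2, 0, 2, 1, 2, 0, 2, 0, 0, 2, 1] .nil .nil) (.cons [14, 13] (.cons [1, 2, 0, 2, 1, 2, 1, 2, 0, 2, 1] .nil .nil) (.cons [17, 13] (.cons [0, 0, 2, 0, 0, 2, 1, 2, 0, 0, 2, 1] .nil .nil) (.cons [2, 16] (.cons [2, 1, 2, 0, 2, 1, 2, 1, 1, 2, 0, 0, 2] .nil .nil) (.cons [5, 16] .nil (.cons [8, 16] (.cons [2, 0, 0, 2, 1, 2, 1, 2, 1, 2, 0, 2] .nil .nil) (.cons [10, 16] (.cons [2,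 1, 1, 2, 0, 2, 0, 2, 1, 1, 2, 0, 0, 2, 1] .nil .nil) (.cons [13, 16] (.cons [0, 2, 1, 1, 2, 0, 2, 0, 2, 0, 2, 1, 2, 1] .nil .nil) (.cons [14, 16] .nil (.cons [15, 16] .nil (.cons [18, 16] (.cons [2, 0, 2, 0, 2, 1, 2, 1, 2, 0, 0] .nil .nil) (.cons [4, 15] (.cons [0, 2, 0, 2, 1, 2, 0, 2, 0, 2, 1, 2, 0, 2, 0] .nil .nil) (.cons [6, 15] (.cons [0, 2, 0, 0, 2, 0, 2, 0, 0, 2, 0, 2, 0, 0, 2, 1] .nil .nil) (.cons [9, 15] (.cons [0, 2, 1, 2, 0, 2, 0, 2, 0, 0] .nil .nil) (.cons [11, 15] (.cons [1, 1, 2, 1, 2, 0, 0, 2, 1, 2, 0, 0, 2, 1] .nil .nil) (.cons [13, 15] .nil (.cons [17, 15] (.cons [2, 1, 1, 2, 0, 0, 2, 0, 2, 0, 2, 1, 2, 1, 2, 1] .nil .nil) (.cons [6, 14] (.cons [0, 2, 0, 2, 0, 2, 0, 2, 1, 1, 2, 1, 2, 0] .nil .nil) (.cons [16, 0, 2] (.cons [0, 0, 2, 1, 1, 2, 0, 2, 1, 2, 0, 2, 1] .nil .nil) (.cons [14, 16, 3] .nil (.cons [6, 12,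 17] .nil (.cons [12, 10, 7] (.cons [2, 1, 2, 0, 2, 1, 2, 1, 2, 1, 2, 1, 1, 2, 0] .nil .nil) (.cons [10, 6, 17] (.cons [1, 2, 1, 2, 1, 2, 1, 1, 2, 0, 2, 1, 2, 1] .nil .nil) (.cons [16, 6, 17] (.cons [2, 1, 2, 1, 1, 2, 1, 2, 1, 2, 0, 2, 0, 2, 1, 2] .nil .nil) (.cons [15, 2, 17] .nil (.cons [7, 10, 3] (.cons [2, 0, 2, 0, 2, 1, 1, 2, 0, 0, 2, 1, 2, 1, 2, 0, 2] .nil .nil) (.cons [13, 4, 2] (.cons [0, 2, 1, 2, 0, 2, 1, 2, 1, 2, 1, 2, 1] .nil .nil) (.cons [14, 3, 17] (.cons [1, 1, 2, 0, 2, 0, 2, 0, 2, 0, 2, 0, 0] .nil .nil) (.cons [18, 3, 17] (.cons [2, 0, 2, 0, 0, 2, 0, 2, 0, 2] .nil .nil) (.cons [4, 0, 5] (.cons [1, 2, 1, 2, 0, 2, 0, 2, 1, 2, 1, 2, 0, 2] .nil .nil) (.cons [7, 0, 5] (.cons [0, 0, 2, 1, 2, 0, 2, 0, 2, 1, 2, 1, 2, 1] .nil .nil) (.cons [7, 18, 16] (.cons [0, 0, 2, 1, 1, 2, 1, 1, 2, 1, 2, 0] .nil .nil) (.cons [13, 18,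 16] (.cons [2, 0, 2, 1, 1, 2, 1, 1, 2, 1, 2] .nil .nil) (.cons [12, 3, 8] (.cons [1, 2, 1, 1, 2, 0, 0, 2, 1, 1, 2, 0, 2] .nil .nil) (.cons [14, 3, 8] (.cons [2, 1, 2, 1, 1, 2, 1, 2, 1, 2, 1] .nil .nil) (.cons [16, 3, 8] .nil (.cons [13, 9, 2] (.cons [0, 2, 1, 1, 2, 0, 2, 1, 2, 0, 2, 1, 1, 2, 1, 2, 0] .nil .nil) (.cons [0, 2, 11] (.cons [2, 1, 2, 1, 1, 2, 0, 2, 0, 2, 1, 2, 0, 2, 1] .nil .nil) (.cons [10, 12, 3] (.cons [0, 0, 2, 1, 1, 2, 0, 0, 2, 1, 2, 1] .nil .nil) (.cons [5, 8, 2] (.cons [0, 2, 0, 2, 0, 2, 0, 2, 0, 2, 1, 1, 2, 0, 2] .nil .nil) (.cons [10, 4, 3] (.cons [2, 0, 2, 0, 2, 1, 2, 0, 2, 0, 2, 1, 1, 2, 0] (.cons [0] (.leaf 3) .nil) .nil) (.cons [19, 4, 3] .nil (.cons [18, 6, 2] (.cons [2, 1, 2, 0, 2, 0, 2, 0, 2, 1] .nil .nil) (.cons [15, 8, 4] (.cons [0, 2, 0, 2, 0, 0, 2, 1, 2, 1, 2, 0, 2, 1] .nil .nil) (.cons [4,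 2, 10] (.cons [0, 0, 2, 1, 1, 2, 0, 0, 2, 1, 1, 2, 0, 2] .nil .nil) (.cons [14, 3, 6] (.cons [2, 1, 2, 0, 2, 1, 2, 1, 2, 0, 2, 0, 2, 0, 2] .nil .nil) (.cons [18, 2, 6] (.cons [0, 2, 0, 2, 0, 0, 2, 1, 2, 0, 2, 0] .nil .nil) (.cons [14, 9, 3] (.cons [0, 2, 1, 2, 0, 2, 1, 1, 2, 1, 2, 0, 2, 1, 2, 0, 0] .nil .nil) (.cons [17, 9, 3] .nil (.cons [12, 11, 3] (.cons [2, 0, 0, 2, 0, 0, 2, 1, 2, 0, 0, 2, 1] .nil .nil) (.cons [11, 15, 7] (.cons [0, 2, 1, 2, 0, 0, 2, 0, 2, 0, 0, 2, 0, 2, 1] .nil .nil) (.cons [13, 7, 2] (.cons [2, 0, 2, 0, 2, 0, 2, 1, 2, 1, 2, 1, 1, 2, 0, 2] .nil .nil) (.cons [11, 15, 17] (.cons [1, 2, 0, 2, 0, 2, 0, 2, 0, 2, 1, 1, 2, 0, 2] .nil .nil) (.cons [13, 15, 17] .nil (.cons [11, 7, 10] (.cons [2, 0, 2, 0, 2, 0, 2, 1, 1, 2, 0, 2] .nil .nil) (.cons [14, 6, 4] .nil (.cons [16, 5, 17] .nil (.cons [18, 11, 8] (.cons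 [0, 2, 1, 2, 0, 2, 1, 2, 0, 0, 2, 1] .nil .nil) .nil))))))))))))))))))))))))))))))))))))))))))))))))))))))))))))))))))))))))))))))))))))))))))))))))))))))))))))))))))))))))))))))))))))))))))))))))))))))))))))))))))))) (⟨cx_l0.b, cx_l0.S, [], cx_R0, 0⟩ :: cx_tl) (0 :: cx_lk) Pd.nil 0 = true := by decide +kernel
theorem g_s0 : slpB 12 m_ts (chainBase [] c_ls) g_Ws [[3, 1, 2, 0, 3, 1, 2, 3, 3, 1, 3, 0, 2, 2, 2, 3, 0, 0], [3, 1, 3, 3, 0, 2, 1, 3, 0, 3, 2, 3, 3, 1, 1, 3, 3], [6, 6, 4, 6, 7, 6, 5, 7, 4, 7, 4, 5, 7], [5, 5, 6, 5, 7, 4, 5, 7, 5, 4, 5, 7, 7, 5], [6, 6, 5, 6, 6, 4, 4, 6, 5, 5, 5, 4, 7, 4, 7, 4, 5], [5, 5, 6, 5, 6, 5, 5, 7, 5, 5, 6, 5, 6], [4, 4, 7, 7, 7, 5, 7, 5, 6, 6, 6, 7, 6, 4, 5, 6, 5, 6], [17, 9, 11, 16, 10], [6, 6, 4, 7, 7, 7, 4, 18], [1, 2, 2, 2, 1, 5, 6, 6, 12, 10], [3, 3, 0, 0, 2, 1, 3, 4, 4, 6, 4, 4], [1,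 3, 0, 2, 1, 2, 0, 0, 7, 5, 6, 5, 7, 16, 12], [1, 1, 2, 2, 0, 2, 0, 5, 6, 4, 7, 7, 4, 10, 16, 8, 18], [0, 3, 1, 1, 1, 2, 7, 7, 5, 7, 5, 6, 6, 8, 16, 8, 18], [3, 0, 2, 2, 0, 3, 3, 0, 0, 6, 5, 6, 5, 5, 7, 4, 8, 16], [2, 1, 3, 3, 1, 3, 5, 6, 5, 6, 6, 4, 4, 10, 8], [3, 0, 3, 1, 3, 3, 1, 2, 7, 5, 6, 6, 5, 5, 8, 16, 18], [7, 4, 4, 7, 7, 7, 10, 18]] 2 20 = true := by decide +kernel
theorem cx_sound {G : Type*} [Group G] {φ : G →* Equiv.Perm ℕ} {γ : ℕ → G}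
    (M : Model φ γ 12 m_ns m_ts) : ChainSound φ (gp γ [0, 2, 4, 6, 8, 10, 12, 14, 16, 18]) 12 [] cx_ls :=
  ⟨Level.ok_sound' M cx_l0_ok,
   Level.ok_sound' M cx_l1_ok,
   Level.okT_sound M cx_l2_ok, trivial⟩
theorem cx_cent {G : Type*} [Group G] {φ : G →* Equiv.Perm ℕ} {γ : ℕ → G}
    (C : Cert φ γ 12 m_ns m_ts [0, 2, 4, 6, 8, 10, 12, 14, 16, 18] c_ls) : Cent γ cx_S.u cx_S.Cl 22 :=
  have X := (C.rechain (cx_sound C.M) (by decide +kernel)).exact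
  have A := Srch.auxB_sound (S := cx_S) C.M (K := ⊤) le_top rfl cx_aux
  have F := fun {tr : Tr} {R : ℕ} => Srch.found_of_run (S := cx_S) C.M C.base (by decide +kernel) X A (tr := tr) (R := R)
  Cent.of_found (S := cx_S) C.M X rfl (F cx_r0) cx_cov
theorem g_top {G : Type*} [Group G] {φ : G →* Equiv.Perm ℕ} {γ : ℕ → G}
    (C : Cert φ γ 12 m_ns m_ts [0, 2, 4, 6, 8, 10, 12, 14, 16, 18] c_ls) : gw γ (g_Ws.take 2) = ⊤ := by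
  have h0 : SlpTo γ (gw γ (g_Ws.take 2)) g_Ws 2 := fun i hi =>
    ev_mem_gw γ (by interval_cases i <;> decide +kernel)
  rw [eq_top_iff, ← C.gen]
  exact SlpTo.gp_le (SlpTo.step C.M C.base (by decide +kernel) h0 g_s0) (by decide +kernel)
theorem a_data {G : Type*} [Group G] {φ : G →* Equiv.Perm ℕ} {γ : ℕ → G} (C : Cert φ γ 12 m_ns m_ts [0, 2, 4, 6, 8, 10, 12, 14, 16, 18] c_ls) :
    ∃ a u v : G, a = u * v * u⁻¹ * v⁻¹ ∧ a ^ 23 = 1 ∧ (∀ c, Commute c a → c ∈ Subgroup.zpowers a) ∧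
      ⊤ ≤ Subgroup.normalClosure {a} := by
  refine ⟨ev (ext γ) cx_S.u, ev (ext γ) [12], ev (ext γ) [7], ?_, ?_, (cx_cent C).zpowers, ?_⟩
  · rw [← ev_invW, ← ev_invW, ← ev_append, ← ev_append, ← ev_append]; exact congrArg _ (by decide +kernel)
  · rw [← ev_pw]; exact C.base _ trivial (fixesB_sound C.M (by decide +kernel) (by decide +kernel))
  · rw [← g_top C]
    exact (le_of_eq (congrArg _ (by decide +kernel))).trans (gw_le_normalClosure γ _ [[], [4, 2]])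

end Cfsg.Agent.J4C
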