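import Cfsg.Agent.CGT.DceMul

set_option autoImplicit false
set_option linter.style.haveILetI false

/-! Double coset enumeration with exact right labels, and words modulo `x ^ 2 = y ^ 3 = 1`. -/

namespace Cfsg.Agent.CGT

open Equiv

/-! ### Words modulo `x ^ 2` and `y ^ 3` -/

noncomputable def push23 (a : ℕ) (w : List ℕ) : List ℕ :=
  List.rec [a] (fun b r _ => Bool.rec
    (Bool.rec (Bool.rec (a :: b :: r) (Nat.xor a 1 :: r)
      (Nat.beq a b && (Nat.beq a 2 || Nat.beq a 3))) r (Nat.beq a 0 && Nat.beq b 0)) r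
    (Nat.beq b (Nat.xor a 1))) w

noncomputable def nf23 (w : List ℕ) : List ℕ :=
  List.rec [] (fun a _ ih => push23 (Bool.rec a 0 (Nat.beq a 1)) ih) w

section
variable {G : Type*} [Group G] {γ : ℕ → G}

theorem ev_push23 (h2 : γ 0 * γ 0 = 1) (h3 : γ 1 * γ 1 * γ 1 = 1) (a : ℕ) (w : List ℕ) :
    ev (ext γ) (push23 a w) = ext γ a * ev (ext γ) w := by
  cases w with
  | nil => exact ev_cons _ _ _
  | cons b r =>
    show ev (ext γ) (Bool.rec (Bool.rec (Bool.rec (a :: b :: r) (Nat.xor a 1 :: r)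
      (Nat.beq a b && (Nat.beq a 2 || Nat.beq a 3))) r (Nat.beq a 0 && Nat.beq b 0)) r
      (Nat.beq b (Nat.xor a 1))) = _
    cases h1 : Nat.beq b (Nat.xor a 1)
    · cases h4 : (Nat.beq a 0 && Nat.beq b 0)
      · cases h5 : (Nat.beq a b && (Nat.beq a 2 || Nat.beq a 3))
        · exact ev_cons _ _ _
        · simp only [Bool.and_eq_true, Bool.or_eq_true, Nat.beq_eq] at h5
          obtain ⟨rfl, h6⟩ := h5
          show ev (ext γ) ((a ^^^ 1) :: r) = _
          rw [ev_cons, ev_cons, ext_xor_one, ← mul_assoc]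
          congr 1
          rcases h6 with rfl | rfl
          · rw [show ext γ 2 = γ 1 from ext_two_mul γ 1]
            exact inv_eq_of_mul_eq_one_left h3
          · rw [show ext γ 3 = (γ 1)⁻¹ from ext_two_mul_add_one γ 1, inv_inv, ← mul_inv_rev]
            exact eq_inv_of_mul_eq_one_right h3
      · simp only [Bool.and_eq_true, Nat.beq_eq] at h4
        obtain ⟨rfl, rfl⟩ := h4
        show ev (ext γ) r = _
        rw [ev_cons, ← mul_assoc, show ext γ 0 = γ 0 from ext_two_mul γ 0, h2, one_mul]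
    · have := Nat.eq_of_beq_eq_true h1
      subst this
      show ev (ext γ) r = _
      rw [ev_cons, xor_eq, ext_xor_one, mul_inv_cancel_left]

theorem ev_nf23 (h2 : γ 0 * γ 0 = 1) (h3 : γ 1 * γ 1 * γ 1 = 1) (w : List ℕ) :
    ev (ext γ) (nf23 w) = ev (ext γ) w := by
  induction w with
  | nil => rfl
  | cons a w ih =>
    show ev (ext γ) (push23 (Bool.rec a 0 (Nat.beq a 1)) (nf23 w)) = _
    rw [ev_push23 h2 h3, ih, ev_cons]
    congr 1
    cases h : Nat.beq a 1
    · rfl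
    · rw [Nat.eq_of_beq_eq_true h]
      show ext γ 0 = ext γ 1
      rw [show ext γ 0 = γ 0 from ext_two_mul γ 0,
        show ext γ 1 = (γ 0)⁻¹ from ext_two_mul_add_one γ 0]
      exact eq_inv_of_mul_eq_one_left h2

/-- Each relator in the derived letters is a conjugate of a known relator. -/
noncomputable def conj23B (R W RR : List (List ℕ)) (cs : List (List ℕ × ℕ)) : Bool :=
  (memLL [0, 0] R && memLL [2, 2, 2] R) && allLt RR.length fun i =>
    beqL (nf23 (app (expand (dbl W) (nth [] RR i)) (app (nth ([], 0) cs i).1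
      (app (nth [] (dbl R) (nth ([], 0) cs i).2) (invW (nth ([], 0) cs i).1))))) []

theorem Holds.conj23B {R W RR : List (List ℕ)} {cs : List (List ℕ × ℕ)} (h : Holds (ext γ) R)
    (hs : conj23B R W RR cs = true) : Holds (ext (wg γ W)) RR := by
  simp only [CGT.conj23B, Bool.and_eq_true, allLt_iff] at hs
  have h2 : γ 0 * γ 0 = 1 := by
    simpa [show ext γ 0 = γ 0 from ext_two_mul γ 0] using h _ (memLL_sound hs.1.1)
  have h3 : γ 1 * γ 1 * γ 1 = 1 := by
    simpa [show ext γ 2 = γ 1 from ext_two_mul γ 1, mul_assoc] using h _ (memLL_sound hs.1.2)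
  intro r hr
  obtain ⟨i, hi, rfl⟩ := List.getElem_of_mem hr
  have e := congrArg (ev (ext γ)) (beqL_sound (hs.2 i hi))
  have e2 : ∀ n, ev (ext γ) (nth [] (dbl R) n) = 1 := fun n => by
    have := congrFun (der_dbl γ R) n
    rw [der] at this
    rw [this]
    have h4 : wg γ R = fun _ => 1 := funext fun j => Enum.holds_nth h j
    rw [h4, ext]; split_ifs <;> simp
  rw [ev_nf23 h2 h3, ev_app, ev_app, ev_app, ev_invW, e2, one_mul, mul_inv_cancel, mul_one,
    ev_expand_dbl, nth_eq, List.getD_eq_getElem _ _ hi] at e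
  exact e

end

/-! ### Substituting a word for `z` -/

noncomputable def subz (u w : List ℕ) : List ℕ :=
  List.rec [] (fun a _ ih => Nat.rec (app u ih)
    (fun b _ => Nat.rec (app (invW u) ih) (fun _ _ => a :: ih) b) a) w

theorem ev_subz {K Γ : Type*} [Group K] [Group Γ] (σ : K →* Γ) (γ : ℕ → K) (z : Γ) (u w : List ℕ) :
    ev (ext (zt σ γ z)) (subz u w) = ev (ext (zt σ γ (ev (ext (zt σ γ z)) u))) w := by
  induction w with
  | nil => rfl
  | cons a w ih =>
    rw [ev_cons, ← ih]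
    rcases a with _ | _ | a
    · exact (ev_app _ _ _).trans (by rw [ext_zt_zero]; rfl)
    · exact (ev_app _ _ _).trans (by rw [zero_add, ext_zt_one, ev_invW]; rfl)
    · exact (ev_cons _ _ _).trans (by rw [ext_zt, ext_zt]; rfl)

namespace Dce

variable {K Γ A : Type*} [Group K] [Group Γ] [CommGroup A] (D : Dce) (X : Ctx K Γ A)
  (RL : BT (List ℕ))

def RelR (a : ℕ) (g : Γ) (b : ℕ) (r : List ℕ) : Prop := (D.W X a)⁻¹ * g * D.W X b = X.s r

def OkR (i : ℕ) : Prop := D.RelR X (D.F.get i).a (X.g (D.F.get i)) (D.F.get i).b (RL.get i)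

noncomputable def labR (i : ℕ) (o : Bool) : List ℕ := Bool.rec (RL.get i) (invW (RL.get i)) o

noncomputable def goR (n : ℕ) (rs : List ℕ) (a : ℕ) (x : List ℕ) (xs : List (List ℕ)) (T : List ℕ)
    (k : ℕ → List ℕ → List (List ℕ) → List ℕ → Bool) : Bool :=
  List.rec (motive := fun _ => ℕ → List ℕ → List (List ℕ) → List ℕ → Bool) k
    (fun r _ ih a x xs T => (fun f o => Bool.rec false
      (ih (src f o) (D.preX f o x) (D.preXs f o x xs) (app (labR RL (Nat.shiftRight r 1) o) T))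
      (Nat.blt (Nat.shiftRight r 1) n && Nat.beq (dst f o) a))
      (D.F.get (Nat.shiftRight r 1)) (odd r)) rs a x xs T

noncomputable def loopR (i : ℕ) (f : Fct) (o : Bool) (pf : Pf) : Bool :=
  D.goR RL i pf.rs (src f o) [] [] [] fun a x xs T => Nat.beq (dst f o) a &&
    ((fun v => D.mt (D.preX f o x) v (D.preXs f o x xs) v
        (List.drop pf.rot (nth [] D.R pf.ρ) ++ List.take pf.rot (nth [] D.R pf.ρ)) pf.ls)
      (expand (dbl D.LW) (nth [] pf.ls 0)) &&
    eqB D.k D.ts D.B (app (labR RL i o) T) [])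

noncomputable def checkR (i : ℕ) (pf : Pf) : Bool :=
  (fun f : Fct => Nat.rec (Nat.beq (nth 0 D.df f.b) i && (Nat.blt f.a f.b && beqL (RL.get i) []))
    (fun m _ => Nat.rec (Nat.beq f.a 0 && (Nat.beq f.b 0 && (!f.j && beqL (RL.get i) f.p)))
      (fun m _ => Nat.rec (D.loopR RL i f false pf) (fun _ _ => D.loopR RL i f true pf) m) m) pf.kind)
    (D.F.get i)

noncomputable def checksR (pfs : List Pf) (i n : ℕ) : Bool :=
  List.rec (motive := fun _ => ℕ → Bool) (fun i => Nat.beq i n)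
    (fun pf _ ih i => Bool.rec false (ih (Nat.add i 1)) (D.checkR RL i pf)) pfs i

def UptoR (n : ℕ) : Prop := ∀ i < n, D.OkR X RL i

/-- The word is traced from the first node to itself. -/
noncomputable def goalR (n : ℕ) (w rs : List ℕ) (ls : List (List ℕ)) : Bool :=
  D.goR RL n rs 0 [] [] [] fun a x xs T =>
    Nat.beq a 0 && D.mt [] (app (D.zsp w).1 T) xs x (D.zsp w).2.1 ls

variable {D X RL} {ns : List Net}

theorem RelR.trans {a b d : ℕ} {g g' : Γ} {r r' : List ℕ} (h : D.RelR X a g b r)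
    (h' : D.RelR X b g' d r') : D.RelR X a (g * g') d (app r r') := by
  rw [RelR, X.s_app, ← h, ← h']; group

theorem RelR.symm {a b : ℕ} {g : Γ} {r : List ℕ} (h : D.RelR X a g b r) :
    D.RelR X b g⁻¹ a (invW r) := by
  rw [RelR, X.s_invW, ← h]; group

theorem Hyp.okR_iff (hy : D.Hyp X ns) (hτ : ∀ v, X.τ v = 1) (i : ℕ) (o : Bool) :
    D.OkR X RL i ↔ D.RelR X (src (D.F.get i) o) (D.wd X (D.F.get i) o) (dst (D.F.get i) o)
      (labR RL i o) := by
  obtain ⟨h1, -, h3⟩ := hy.wd_val (D.F.get i)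
  cases o
  · rw [h1]; rfl
  · rw [hτ, hτ, mul_one, mul_one] at h3
    rw [h3]
    refine ⟨fun h => RelR.symm h, fun h => ?_⟩
    have := RelR.symm h
    rw [inv_inv, RelR, X.s_invW] at this
    rw [OkR, RelR]
    refine this.trans ?_
    show (X.s (invW _))⁻¹ = _
    rw [X.s_invW, inv_inv]

theorem Hyp.goR (hy : D.Hyp X ns) (hτ : ∀ v, X.τ v = 1) {n : ℕ} (hn : D.UptoR X RL n) {d : ℕ}
    {rs : List ℕ} {a : ℕ} {x : List ℕ} {xs : List (List ℕ)} {T : List ℕ}
    {k : ℕ → List ℕ → List (List ℕ) → List ℕ → Bool}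
    (h0 : D.RelR X a (X.s x * X.zs xs) d T) (h : D.goR RL n rs a x xs T k = true) :
    ∃ a x xs T, D.RelR X a (X.s x * X.zs xs) d T ∧ k a x xs T = true := by
  induction rs generalizing a x xs T with
  | nil => exact ⟨a, x, xs, T, h0, h⟩
  | cons r rs ih =>
    have h' : Bool.rec (motive := fun _ => Bool) false
      (D.goR RL n rs (src (D.F.get (Nat.shiftRight r 1)) (odd r))
        (D.preX (D.F.get (Nat.shiftRight r 1)) (odd r) x)
        (D.preXs (D.F.get (Nat.shiftRight r 1)) (odd r) x xs)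
        (app (labR RL (Nat.shiftRight r 1) (odd r)) T) k)
      (Nat.blt (Nat.shiftRight r 1) n && Nat.beq (dst (D.F.get (Nat.shiftRight r 1)) (odd r)) a) =
        true := h
    cases hc : (Nat.blt (Nat.shiftRight r 1) n &&
      Nat.beq (dst (D.F.get (Nat.shiftRight r 1)) (odd r)) a)
    · rw [hc] at h'; exact absurd h' Bool.false_ne_true
    · rw [hc] at h'
      rw [Bool.and_eq_true, Nat.blt_eq, Nat.beq_eq] at hc
      refine ih ?_ h'
      rw [pre_val]
      exact RelR.trans (hc.2 ▸ (hy.okR_iff hτ _ (odd r)).1 (hn _ hc.1)) h0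

theorem Hyp.loopR (hy : D.Hyp X ns) (hτ : ∀ v, X.τ v = 1) {i : ℕ} (hn : D.UptoR X RL i) {o : Bool}
    {pf : Pf} (h : D.loopR RL i (D.F.get i) o pf = true) : D.OkR X RL i := by
  obtain ⟨a, x, xs, T, h1, h2⟩ := hy.goR hτ hn (d := src (D.F.get i) o)
    (by simp [RelR, Ctx.zs]) h
  simp only [Bool.and_eq_true, Nat.beq_eq] at h2
  obtain ⟨rfl, h2, h3⟩ := h2
  have h4 := hy.mt h2
  have h5 := hy.rel pf.ρ
  generalize nth [] D.R pf.ρ = r at *
  have h6 : X.zs (List.drop pf.rot r ++ List.take pf.rot r) = 1 := by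
    rw [← List.take_append_drop pf.rot r, X.zs_append, hτ, mul_eq_one_comm] at h5
    rw [X.zs_append, h5]
  rw [h6, hτ, one_mul, mul_one, mul_assoc, mul_eq_left, mul_eq_one_comm, pre_val] at h4
  have h7 := hy.eq h3
  rw [X.s_app, X.s_nil, ← h1] at h7
  refine (hy.okR_iff hτ i o).2 ?_
  rw [RelR, eq_inv_of_mul_eq_one_left h7, eq_inv_of_mul_eq_one_left h4]
  group

theorem Hyp.checkR (hy : D.Hyp X ns) (hτ : ∀ v, X.τ v = 1) {i : ℕ} (hn : D.UptoR X RL i) {pf : Pf}
    (h : D.checkR RL i pf = true) : D.OkR X RL i := by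
  obtain ⟨kind, rs, ρ, rot, ls⟩ := pf
  rcases kind with _ | _ | _ | m
  · have h' : (Nat.beq (nth 0 D.df (D.F.get i).b) i && (Nat.blt (D.F.get i).a (D.F.get i).b &&
      beqL (RL.get i) [])) = true := h
    simp only [Bool.and_eq_true, Nat.beq_eq, Nat.blt_eq] at h'
    rw [OkR, RelR, beqL_sound h'.2.2, W.eq_1 D X (D.F.get i).b, h'.1, dif_pos h'.2.1]
    simp
  · have h' : (Nat.beq (D.F.get i).a 0 && (Nat.beq (D.F.get i).b 0 && (!(D.F.get i).j &&
      beqL (RL.get i) (D.F.get i).p))) = true := h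
    simp only [Bool.and_eq_true, Nat.beq_eq, Bool.not_eq_true'] at h'
    rw [OkR, RelR, beqL_sound h'.2.2.2, h'.1, h'.2.1, W_zero, Ctx.g, h'.2.2.1]
    simp
  · exact hy.loopR hτ hn h
  · exact hy.loopR hτ hn h

theorem UptoR.zero : D.UptoR X RL 0 := fun _ h => absurd h (Nat.not_lt_zero _)

theorem UptoR.step (hy : D.Hyp X ns) (hτ : ∀ v, X.τ v = 1) {pfs : List Pf} {i n : ℕ}
    (hi : D.UptoR X RL i) (h : D.checksR RL pfs i n = true) : D.UptoR X RL n := by
  induction pfs generalizing i with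
  | nil => exact Nat.eq_of_beq_eq_true h ▸ hi
  | cons pf pfs ih =>
    have h' : Bool.rec (motive := fun _ => Bool) false (D.checksR RL pfs (i + 1) n)
      (D.checkR RL i pf) = true := h
    cases hc : D.checkR RL i pf
    · rw [hc] at h'; exact absurd h' Bool.false_ne_true
    · rw [hc] at h'
      refine ih (fun j hj => ?_) h'
      rcases Nat.lt_succ_iff_lt_or_eq.1 hj with hj | rfl
      · exact hi j hj
      · exact hy.checkR hτ hi hc

theorem UptoR.goal (hy : D.Hyp X ns) (hτ : ∀ v, X.τ v = 1) {n : ℕ} (hn : D.UptoR X RL n)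
    {w rs : List ℕ} {ls : List (List ℕ)} (h : D.goalR RL n w rs ls = true) :
    ev (ext (zt X.σ X.γ X.z)) w = 1 := by
  obtain ⟨a, x, xs, T, h1, h2⟩ := hy.goR hτ hn (d := 0) (by simp [RelR, Ctx.zs]) h
  simp only [Bool.and_eq_true, Nat.beq_eq] at h2
  obtain ⟨rfl, h2⟩ := h2
  have h4 := hy.mt h2
  rw [RelR, W_zero, inv_one, one_mul, mul_one] at h1
  rw [hτ, X.s_nil, mul_one, mul_one, h1, X.s_app, ← mul_assoc, eq_comm, mul_eq_right,
    mul_eq_one_comm] at h4
  rw [D.zsp_val X hy.cen hy.inv, hτ, mul_one, h4]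

variable (D RL) in
noncomputable def goalsR (n : ℕ) (ws : List (List ℕ)) (cs : List (List ℕ × List (List ℕ))) : Bool :=
  allLt ws.length fun i => D.goalR RL n (nth [] ws i) (nth ([], []) cs i).1 (nth ([], []) cs i).2

theorem UptoR.goals (hy : D.Hyp X ns) (hτ : ∀ v, X.τ v = 1) {n : ℕ} (hn : D.UptoR X RL n)
    {u : List ℕ} {ZR : List (List ℕ)} {cs : List (List ℕ × List (List ℕ))}
    (h : D.goalsR RL n (ZR.map (subz u)) cs = true) :
    Holds (ext (zt X.σ X.γ (ev (ext (zt X.σ X.γ X.z)) u))) ZR := fun w hw => by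
  obtain ⟨i, hi, rfl⟩ := List.getElem_of_mem hw
  have := hn.goal hy hτ (allLt_iff.1 h i (by simpa using hi))
  rwa [nth_eq, List.getD_eq_getElem _ _ (by simpa using hi), List.getElem_map, ev_subz] at this

theorem ctx0_τ {G : Type*} [Group G] (φ : K →* Perm ℕ) (γ : ℕ → K) (ρ : K →* G) (z : G)
    (H : Subgroup G) (v : List ℤ) : (ctx0 φ γ ρ z H).τ v = 1 := rfl

/-! ### An assumed triangle -/

noncomputable def fctB (f : Fct) (a b : ℕ) (p : List ℕ) : Bool :=
  Nat.beq f.a a && (Nat.beq f.b b && (f.j && (beqL f.p p && (beqL f.q [] && zeroZ f.t))))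

variable (D) in
noncomputable def triB (p q : List ℕ) : Bool :=
  fctB (D.F.get (nth 0 D.df 1)) 0 1 [] && (fctB (D.F.get (nth 0 D.df 2)) 1 2 p &&
    allL D.ax fun i => fctB (D.F.get i) 2 0 q)

theorem fctB_sound {f : Fct} {a b : ℕ} {p : List ℕ} (h : fctB f a b p = true) :
    f.a = a ∧ f.b = b ∧ X.g f = X.s p * X.z ∧ X.τ f.t = 1 := by
  simp only [fctB, Bool.and_eq_true, Nat.beq_eq] at h
  obtain ⟨h1, h2, h3, h4, h5, h6⟩ := h
  refine ⟨h1, h2, ?_, X.τ_zeroZ h6⟩
  rw [Ctx.g, h3, beqL_sound h4, beqL_sound h5]; simp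

theorem Hyp.of_tri (hy : Dce.Hyp { D with ax := [] } X ns) {p q : List ℕ} (h : D.triB p q = true)
    (hw : X.z * X.s p * X.z * X.s q * X.z ∈ X.H) : D.Hyp X ns := by
  simp only [triB, Bool.and_eq_true, allL_iff] at h
  refine ⟨hy.M, hy.hB, hy.hp, hy.cen, hy.sub, hy.inv, hy.push, hy.rel, fun i hi => ?_⟩
  obtain ⟨a1, -, a3, -⟩ := fctB_sound (X := X) h.1
  obtain ⟨b1, -, b3, -⟩ := fctB_sound (X := X) h.2.1
  obtain ⟨c1, c2, c3, c4⟩ := fctB_sound (X := X) (h.2.2 i hi)
  have e1 : D.W X 1 = X.z⁻¹ := by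
    rw [W.eq_1, dif_pos (by rw [a1]; exact Nat.one_pos), a1, a3, W_zero]; simp
  have e2 : D.W X 2 = (X.s p * X.z)⁻¹ * X.z⁻¹ := by
    rw [W.eq_1, dif_pos (by rw [b1]; exact Nat.one_lt_two), b1, b3, e1]
  rw [Ok, Rel, c1, c2, c3, c4, e2, W_zero]
  convert hw using 1
  group

end Dce

end Cfsg.Agent.CGT
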