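import Cfsg.Agent.J4C.Lib

set_option autoImplicit false
set_option linter.style.haveILetI false

/-! Words in `z` and the letters of `K`, compared segment by segment; one more letter. -/

namespace Cfsg.Agent.CGT

open Equiv

noncomputable def spl (w : List ℕ) : List ℕ × List (ℕ × List ℕ) :=
  List.rec ([], []) (fun a _ ih => Nat.rec ([], (0, ih.1) :: ih.2)
    (fun b _ => Nat.rec ([], (1, ih.1) :: ih.2) (fun c _ => (c :: ih.1, ih.2)) b) a) w

noncomputable def zeqL (k : ℕ) (ts : List Tab) (B : List ℕ) (u v : List (ℕ × List ℕ)) : Bool :=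
  List.rec (motive := fun _ => List (ℕ × List ℕ) → Bool)
    (fun v => List.rec true (fun _ _ _ => false) v)
    (fun a _ ih v => List.rec false
      (fun b r _ => Nat.beq a.1 b.1 && (eqB k ts B a.2 b.2 && ih r)) v) u v

noncomputable def zeq (k : ℕ) (ts : List Tab) (B : List ℕ) (U V : List (List ℕ)) : Bool :=
  allLt V.length fun i => eqB k ts B (spl (nth [] U i)).1 (spl (nth [] V i)).1 &&
    zeqL k ts B (spl (nth [] U i)).2 (spl (nth [] V i)).2

section
variable {K Γ : Type*} [Group K] [Group Γ]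

noncomputable def zv (σ : K →* Γ) (γ : ℕ → K) (z : Γ) : List (ℕ × List ℕ) → Γ
  | [] => 1
  | p :: l => ext (zt σ γ z) p.1 * σ (ev (ext γ) p.2) * zv σ γ z l

theorem ev_spl (σ : K →* Γ) (γ : ℕ → K) (z : Γ) (w : List ℕ) :
    ev (ext (zt σ γ z)) w = σ (ev (ext γ) (spl w).1) * zv σ γ z (spl w).2 := by
  induction w with
  | nil => show 1 = σ 1 * 1; simp
  | cons a w ih =>
    rw [ev_cons, ih]
    rcases a with _ | _ | a
    · show _ = σ 1 * (_ * _ * _); rw [map_one, one_mul, mul_assoc]; rfl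
    · show _ = σ 1 * (_ * _ * _); rw [map_one, one_mul, mul_assoc]; rfl
    · show _ = σ (ev (ext γ) (a :: (spl w).1)) * zv σ γ z (spl w).2
      rw [ev_cons, map_mul, mul_assoc]
      exact congrArg (· * _) (ext_zt σ γ z a)

theorem Holds.zeq {φ : K →* Perm ℕ} {γ : ℕ → K} {k : ℕ} {ns : List Net} {ts : List Tab}
    (M : Model φ γ k ns ts) {B : List ℕ} (hB : IsBase φ ⊤ B) (hp : ptsOK k B = true)
    {σ : K →* Γ} {z : Γ} {U V : List (List ℕ)} (h : Holds (ext (zt σ γ z)) U)
    (hs : zeq k ts B U V = true) : Holds (ext (zt σ γ z)) V := by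
  have e : ∀ {u v}, eqB k ts B u v = true → ev (ext γ) u = ev (ext γ) v := fun h =>
    eqB_sound M hB hp (Subgroup.mem_top _) (Subgroup.mem_top _) h
  have key : ∀ u v, zeqL k ts B u v = true → zv σ γ z u = zv σ γ z v := fun u => by
    induction u with
    | nil =>
      intro v hv
      cases v with
      | nil => rfl
      | cons _ _ => exact absurd hv Bool.false_ne_true
    | cons a u ih =>
      intro v hv
      cases v with
      | nil => exact absurd hv Bool.false_ne_true
      | cons b v =>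
        have h' : (Nat.beq a.1 b.1 && (eqB k ts B a.2 b.2 && zeqL k ts B u v)) = true := hv
        simp only [Bool.and_eq_true, Nat.beq_eq] at h'
        rw [zv, zv, h'.1, e h'.2.1, ih v h'.2.2]
  intro w hw
  obtain ⟨i, hi, rfl⟩ := List.getElem_of_mem hw
  have h1 := allLt_iff.1 hs i hi
  rw [Bool.and_eq_true] at h1
  have h2 := Enum.holds_nth h i
  rw [ev_spl, e h1.1, key _ _ h1.2, ← ev_spl, nth_eq, List.getD_eq_getElem _ _ hi] at h2
  exact h2

theorem gen_zt {σ : K →* Γ} {γ : ℕ → K} {z : Γ} {L : List ℕ} (h : gp (zt σ γ z) L = ⊤) :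
    Subgroup.closure (Set.range σ ∪ {z}) = ⊤ := by
  rw [eq_top_iff, ← h]
  refine gp_le fun a _ => ext_mem ?_
  generalize a / 2 = j
  cases j
  · exact Subgroup.subset_closure (Or.inr rfl)
  · exact Subgroup.subset_closure (Or.inl ⟨_, rfl⟩)

theorem ev_sh' (g : ℕ → Γ) (w : List ℕ) : ev (ext g) (sh w) = ev (ext fun j => g (j + 1)) w := by
  have : zt (MonoidHom.id Γ) (fun j => g (j + 1)) (g 0) = g := funext fun j => by cases j <;> rfl
  conv_lhs => rw [← this]
  exact ev_sh _ _ _ _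

theorem pg_ext (m : ℕ) (R ZR : List (List ℕ)) : ∃ σ : PG m R →* PG (m + 1) (ZR ++ R.map sh),
    zt σ (pgγ m R) (pgγ (m + 1) (ZR ++ R.map sh) 0) = pgγ (m + 1) (ZR ++ R.map sh) := by
  obtain ⟨σ, hσ⟩ := pg_lift (m := m) (R := R) (p := fun j => pgγ (m + 1) (ZR ++ R.map sh) (j + 1))
    (fun j hj => pg_one _ (by omega)) fun r hr => by
      rw [← ev_sh']
      exact pg_holds _ _ _ (List.mem_append_right _ (List.mem_map_of_mem hr))
  exact ⟨σ, funext fun j => by
    cases j
    · rfl
    · exact hσ _⟩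

theorem pg_ext_lift {m : ℕ} {R ZR : List (List ℕ)} (ρ : PG m R →* Γ) {z : Γ}
    (h : Holds (ext (zt ρ (pgγ m R) z)) ZR) : ∃ j : PG (m + 1) (ZR ++ R.map sh) →* Γ,
      ∀ i, j (pgγ (m + 1) (ZR ++ R.map sh) i) = zt ρ (pgγ m R) z i :=
  pg_lift (fun j hj => by
      obtain ⟨i, rfl⟩ : ∃ i, j = i + 1 := ⟨j - 1, by omega⟩
      show ρ _ = 1
      rw [pg_one _ (by omega), map_one])
    (h.append fun r hr => by
      obtain ⟨u, hu, rfl⟩ := List.mem_map.1 hr
      rw [ev_sh, pg_holds _ _ _ hu, map_one])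

end

section
open Cfsg.Spor
variable {α : Type} [DecidableEq α] {K : Type*} [Group K]

noncomputable def liftB (k : ℕ) (ts : List Tab) (B : List ℕ) (n b : ℕ)
    (W Wd ZL DR : List (List ℕ)) : Bool :=
  (Nat.beq Wd.length n && beqL (nth [] Wd b) [0]) &&
    ((allLt W.length fun j => beqL (expand (dbl Wd) (nth [] W j)) (sh (nth [] W j)) &&
      eqB k ts B [Nat.mul 2 j] (nth [] W j)) &&
    allL DR fun r => (fun w => memLL w ZL || isK k ts B w) (expand (dbl Wd) r))

theorem hlift_words {gens : List α} (hg : ∀ x, x ∈ gens) (hn : gens.Nodup)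
    {edges : List (α × ℕ × α)} {extra : List (FreeGroup α)} {γ : ℕ → K}
    {ρ : K →* CoxPresented α edges extra} {φ : K →* Perm ℕ} {k : ℕ} {ns : List Net} {ts : List Tab}
    (M : Model φ γ k ns ts) {B : List ℕ} (hB : IsBase φ ⊤ B) (hp : ptsOK k B = true) {L : List ℕ}
    (hL : gp γ L = ⊤) {W Wd ZL : List (List ℕ)} (h1 : ∀ j, W.length ≤ j → γ j = 1)
    (hρ : ∀ j, ρ (γ j) = wg (pγ gens edges extra) W j) {b : ℕ}
    (h : liftB k ts B gens.length b W Wd ZL (defR gens edges extra) = true)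
    (Γ : Type) [Group Γ] (σ : K →* Γ) (z' : Γ) (hH : Holds (ext (zt σ γ z')) ZL) :
    ∃ f : CoxPresented α edges extra →* Γ, f.comp ρ = σ ∧ f (pγ gens edges extra b) = z' := by
  simp only [liftB, Bool.and_eq_true, Nat.beq_eq, allLt_iff] at h
  obtain ⟨f, hf⟩ := pres_lift hg hn (edges := edges) (extra := extra) (p := wg (zt σ γ z') Wd)
    (fun j hj => wg_of_le _ (by omega)) fun r hr => by
      have := allL_iff.1 h.2.2 r hr
      rw [Bool.or_eq_true, isK, Bool.and_eq_true] at this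
      rw [← ev_expand_dbl]
      rcases this with h2 | h2
      · exact hH _ (memLL_sound h2)
      · rw [← beqL_sound h2.1, ev_sh, hB _ trivial (fixesB_sound M hp h2.2), map_one]
  refine ⟨f, hom_ext_gp hL fun j => ?_, ?_⟩
  · by_cases hj : j < W.length
    · have e := eqB_sound M hB hp (Subgroup.mem_top _) (Subgroup.mem_top _) (h.2.1 j hj).2
      rw [ev_singleton, show Nat.mul 2 j = 2 * j from rfl, ext_two_mul] at e
      rw [MonoidHom.comp_apply, hρ, wg, map_ev_ext, funext hf, ← ev_expand_dbl,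
        beqL_sound (h.2.1 j hj).1, ev_sh, ← e]
    · rw [h1 j (by omega), map_one, map_one]
  · rw [hf, wg, beqL_sound h.1.2, ev_singleton, ext_zt_zero]

end

end Cfsg.Agent.CGT
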