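import Cfsg.Agent.J4C.Lib2

set_option autoImplicit false
set_option linter.style.haveILetI false

/-! The order bound given by a double coset enumeration. -/

namespace Cfsg.Agent.CGT

open Equiv

namespace Dce

variable {K Γ A : Type*} [Group K] [Group Γ] [CommGroup A] {D : Dce} {X : Ctx K Γ A} {ns : List Net}

theorem stab_sub (hy : D.Hyp X ns) {n : ℕ} (hn : D.Upto X n) (hA : ∀ a, X.ι a ∈ X.H) {d : ℕ}
    {S : List ℕ} (h : allL S (D.refOK n d false [d]) = true) :
    ∀ s ∈ gw X.γ (S.map D.lw), (D.W X d)⁻¹ * X.σ s * D.W X d ∈ X.H := by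
  have : gw X.γ (S.map D.lw) ≤ (X.H.comap (MulAut.conj (D.W X d)⁻¹).toMonoidHom).comap X.σ :=
    gw_le fun u hu => by
      obtain ⟨r, hr, rfl⟩ := List.mem_map.1 hu
      obtain ⟨e', he', q, t, h5⟩ := refOK_sound hy hn (allL_iff.1 h r hr)
      rw [List.mem_singleton.1 he', Rel] at h5
      simpa [Ctx.s] using (X.H.mul_mem_cancel_right (hA _)).1 h5
  intro s hs
  simpa using this hs

theorem card_le_of_inX [Finite K] [Finite X.H] {N : List ℕ} (h : ∀ g, D.InX X N g) (m : ℕ → ℕ)
    (hm : ∀ d ∈ N, ∃ S : Subgroup K, (∀ s ∈ S, (D.W X d)⁻¹ * X.σ s * D.W X d ∈ X.H) ∧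
      Nat.card K ≤ m d * Nat.card S) : Nat.card Γ ≤ (N.map m).sum * Nat.card X.H := by
  haveI := finite_of_inX h
  have key : {g | D.InX X N g}.ncard ≤ (N.map m).sum * Nat.card X.H := by
    clear h
    induction N with
    | nil => simp [InX]
    | cons d N ih =>
      obtain ⟨S, h1, h2⟩ := hm d (by simp)
      have h3 : Nat.card (K ⧸ S) ≤ m d := by
        rw [Subgroup.card_eq_card_quotient_mul_card_subgroup S] at h2
        exact Nat.le_of_mul_le_mul_right h2 Nat.card_pos
      have h4 : {g | D.InX X (d :: N) g} ⊆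
          Set.range (fun x : (K ⧸ S) × X.H => X.σ x.1.out * D.W X d * x.2) ∪ {g | D.InX X N g} := by
        rintro g ⟨e, he, k, h5⟩
        rcases List.mem_cons.1 he with rfl | he
        · obtain ⟨s, hs⟩ := QuotientGroup.mk_out_eq_mul S k
          refine Or.inl ⟨((k : K ⧸ S), ⟨_, X.H.mul_mem (X.H.inv_mem (h1 s s.2)) h5⟩), ?_⟩
          simp only [hs, map_mul]
          group
        · exact Or.inr ⟨e, he, k, h5⟩
      have h5 : (Set.range fun x : (K ⧸ S) × X.H => X.σ x.1.out * D.W X d * x.2).ncard ≤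
          m d * Nat.card X.H := by
        rw [← Set.image_univ]
        refine (Set.ncard_image_le (Set.toFinite _)).trans ?_
        rw [Set.ncard_univ, Nat.card_prod]
        exact Nat.mul_le_mul_right _ h3
      rw [List.map_cons, List.sum_cons, add_mul]
      exact (Set.ncard_le_ncard h4 (Set.toFinite _)).trans ((Set.ncard_union_le _ _).trans
        (Nat.add_le_add h5 (ih fun e he => hm e (by simp [he]))))
  rwa [show {g | D.InX X N g} = Set.univ from Set.eq_univ_of_forall h, Set.ncard_univ] at key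

end Dce

theorem card_gw_ge {G : Type*} [Group G] [Finite G] {φ : G →* Perm ℕ} {γ : ℕ → G} {k : ℕ}
    {ns : List Net} {ts : List Tab} (M : Model φ γ k ns ts) {LW Ws : List (List ℕ)} {ls : List Level}
    (h1 : (ptsOK k [] && allL ls fun l => allL l.S fun u =>
      memLL u (Ws.map (expand (dbl LW)))) = true) (h2 : chainOK k ns ts ls [] = true) :
    chainCard ls ≤ Nat.card (gw γ LW) := by
  have := (chain_gw M h1 h2).le_card
  rwa [St_nil] at this

end Cfsg.Agent.CGT
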