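import Cfsg.Agent.J4C.Lib3
import Cfsg.Agent.CGT.Out3

set_option autoImplicit false
set_option linter.style.haveILetI false

/-! Automorphisms determined on three elements and the involution centralising the second. -/

namespace Cfsg.Agent.CGT

open Equiv

variable {G : Type*} [Group G]

theorem fix_invol {γ : ℕ → G} {u v : List ℕ} (hu : orderOf (ev (ext γ) u) = 11)
    (hc : Cent γ u [v] 10) (hv : ev (ext γ) v * ev (ext γ) v = 1) (hv1 : ev (ext γ) v ≠ 1)
    (hvu : Commute (ev (ext γ) v) (ev (ext γ) u)) (α : MulAut G)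
    (hα : α (ev (ext γ) u) = ev (ext γ) u) : α (ev (ext γ) v) = ev (ext γ) v := by
  obtain ⟨i, hi, j, e⟩ := hc (α (ev (ext γ) v)) (by rw [← hα]; exact hvu.map α)
  have h2 : α (ev (ext γ) v) * α (ev (ext γ) v) = 1 := by rw [← map_mul, hv, map_one]
  have h3 : ∀ c, c * c = 1 → Commute c (ev (ext γ) u) →
      c * ev (ext γ) u ^ i * (c * ev (ext γ) u ^ i) = 1 → i = 0 := fun c h1 h4 h5 => by
    rw [← sq, (h4.pow_right i).mul_pow, sq, h1, one_mul, ← pow_mul, ← orderOf_dvd_iff_pow_eq_one,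
      hu] at h5
    omega
  rw [e] at h2
  rcases j with _ | j
  · rw [e, h3 _ hv hvu h2, pow_zero, mul_one]; rfl
  · have h6 : ev (ext γ) (nth [] [v] (j + 1)) = 1 := rfl
    rw [h6] at h2 e
    rw [h3 1 (one_mul _) (Commute.one_left _) h2, pow_zero, mul_one] at e
    exact absurd (α.injective (e.trans (map_one α).symm)) hv1

theorem Cent.shift {γ : ℕ → G} {u v c : List ℕ} (hu : orderOf (ev (ext γ) u) = 11)
    (hc : Cent γ u [c] 10) {m : ℕ} (e : ev (ext γ) c = ev (ext γ) v * ev (ext γ) u ^ m) :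
    Cent γ u [v] 10 := fun x hx => by
  obtain ⟨i, hi, j, h⟩ := hc x hx
  rcases j with _ | j
  · refine ⟨(m + i) % 11, by omega, 0, h.trans ?_⟩
    show ev (ext γ) c * _ = ev (ext γ) v * _
    rw [e, ← hu, pow_mod_orderOf, pow_add, mul_assoc]
  · exact ⟨i, hi, j + 1, h⟩

namespace OutD

variable {D : OutD} {φ : G →* Perm ℕ} {γ : ℕ → G} {ns : List Net}

variable (D) in
noncomputable def fourth (v c : List ℕ) (m q : ℕ) : Bool :=
  (fixesB D.k D.ts (pw D.y 11) D.B && movesD D.k D.ts [D.y] q [0]) &&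
    ((fixesB D.k D.ts (app v v) D.B && movesD D.k D.ts [v] q [0]) &&
      (eqB D.k D.ts D.B (app v D.y) (app D.y v) && eqB D.k D.ts D.B c (app v (pw D.y m))))

theorem aut_two [Finite G] (M : Model φ γ D.k ns D.ts) (hB : IsBase φ ⊤ D.B) {N q : ℕ}
    (hN : Nat.card G = N) (hp : D.p.Prime) (hb : D.basic N q = true) {n : ℕ} (hx : Cent γ D.x [] n)
    (hu : Cent γ D.u D.Cl D.n) (hd : ∀ k ∈ D.Ks, ∀ c ∈ [] :: D.Cl, D.Done γ k c) {v : List ℕ}
    (hg : gw γ [D.x, D.y, D.w, v] = ⊤) {X Z : List ℕ} (ht : D.tg = [[D.x, D.y, D.w], [X, D.y, Z]])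
    (β : MulAut G) {W : List (List ℕ)} (hβ : ∀ j, β (γ j) = wg γ W j) {g : List ℕ}
    (h2 : D.second W g X Z = true) {c : List ℕ} (e : D.u = D.y ∧ D.Cl = [c] ∧ D.n = 10) {m q' : ℕ}
    (h4 : D.fourth v c m q' = true) (α : MulAut G) :
    ∃ h : G, MulAut.conj h * α = 1 ∨ MulAut.conj h * α = β := by
  have hb' := hb
  unfold basic at hb'
  simp only [Bool.and_eq_true] at hb'
  have h0 := hb'.1
  unfold second at h2
  simp only [Bool.and_eq_true] at h2
  have key : ∀ {a b : List ℕ}, eqB D.k D.ts D.B (app g (expand (dbl W) a)) (app b g) = true →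
      (MulAut.conj (ev (ext γ) g) * β) (ev (ext γ) a) = ev (ext γ) b := by
    intro a b h
    have := eqB_sound M hB h0 trivial trivial h
    rw [ev_app, ev_app, ← map_ev_wg hβ] at this
    rw [MulAut.mul_apply, MulAut.conj_apply, this]; group
  have f1 := key h2.1
  have f2 := key h2.2.1
  have f3 := key h2.2.2
  unfold fourth at h4
  simp only [Bool.and_eq_true] at h4
  haveI : Fact (Nat.Prime 11) := ⟨by norm_num⟩
  have o1 : orderOf (ev (ext γ) D.y) = 11 := by
    apply orderOf_eq_prime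
    · rw [← ev_pw]; exact hB _ trivial (fixesB_sound M h0 h4.1.1)
    · have := movesD_sound M h4.1.2
      rwa [ev_singleton] at this
  have o2 : ev (ext γ) v * ev (ext γ) v = 1 := by
    rw [← ev_app]; exact hB _ trivial (fixesB_sound M h0 h4.2.1.1)
  have o3 : ev (ext γ) v ≠ 1 := by
    have := movesD_sound M h4.2.1.2
    rwa [ev_singleton] at this
  have o4 : Commute (ev (ext γ) v) (ev (ext γ) D.y) := by
    have := eqB_sound M hB h0 trivial trivial h4.2.2.1
    rwa [ev_app, ev_app] at this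
  have o5 := eqB_sound M hB h0 trivial trivial h4.2.2.2
  rw [ev_app, ev_pw] at o5
  have fx := fix_invol o1 (Cent.shift o1 (by rwa [e.1, e.2.1, e.2.2] at hu) o5) o2 o3 o4
  have ext4 : ∀ {α β : MulAut G}, α (ev (ext γ) D.x) = β (ev (ext γ) D.x) →
      α (ev (ext γ) D.y) = ev (ext γ) D.y → β (ev (ext γ) D.y) = ev (ext γ) D.y →
      α (ev (ext γ) D.w) = β (ev (ext γ) D.w) → α = β := fun {α β} h1 h2 h2' h3 => by
    have : gw γ [D.x, D.y, D.w, v] ≤ α.toMonoidHom.eqLocus β.toMonoidHom := gw_le fun u hu => by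
      simp only [List.mem_cons, List.not_mem_nil, or_false] at hu
      rcases hu with rfl | rfl | rfl | rfl
      exacts [h1, h2.trans h2'.symm, h3, (fx α h2).trans (fx β h2').symm]
    ext z
    exact this (hg ▸ Subgroup.mem_top z)
  obtain ⟨g', t, h0, h1, h2, h3⟩ := main M hB hN hp hb hx hu hd α
  rw [ht] at h0 h1 h2 h3
  rcases t with _ | _ | t
  · exact ⟨g', Or.inl (ext4 h1 h2 rfl h3)⟩
  · refine ⟨(ev (ext γ) g)⁻¹ * g', Or.inr ?_⟩
    rw [map_mul, mul_assoc, ext4 (h1.trans f1.symm) h2 f2 (h3.trans f3.symm), map_inv,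
      inv_mul_cancel_left]
  · simp at h0

end OutD

end Cfsg.Agent.CGT
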