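import Cfsg.Agent.J4C.Abs

set_option autoImplicit false
set_option linter.style.haveILetI false

/-! Small lemmas on chains, fixed points and commuting words. -/

namespace Cfsg.Agent.CGT

open Equiv

variable {G : Type*} [Group G]

theorem ChainSound.card_St_le {φ : G →* Perm ℕ} {K : Subgroup G} [Finite K] {k : ℕ} {F : List ℕ}
    {ls ls' : List Level} (h : ChainSound φ K k F (ls ++ ls')) (h0 : 0 < chainCard ls)
    (hc : Nat.card (St φ K F) ≤ chainCard ls * chainCard ls') :
    Nat.card (St φ K (chainBase F ls)) ≤ chainCard ls' := by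
  induction ls generalizing F with
  | nil => simpa [chainCard, chainBase] using hc
  | cons l ls ih =>
    change 0 < l.n * chainCard ls at h0
    change _ ≤ l.n * chainCard ls * _ at hc
    refine ih h.2 (Nat.pos_of_mul_pos_left h0) ?_
    have h2 := h.1.le_ncard.2.1
    rw [card_St φ K l.b F, mul_assoc] at hc
    exact Nat.le_of_mul_le_mul_left ((Nat.mul_le_mul_right _ h2).trans hc)
      (Nat.pos_of_mul_pos_right h0)

/-- The points fixed by all the words. -/
noncomputable def fixM (k : ℕ) (ns : List Net) (S : List (List ℕ)) : ℕ :=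
  Nat.xor (msk (Nat.pow 2 k)) (List.rec 0 (fun w _ ih => Nat.lor (movedM k ns w) ih) S)

theorem Cert.fix_mem {φ : G →* Perm ℕ} {γ : ℕ → G} {d : ℕ} {ns : List Net} {ts : List Tab}
    {L : List ℕ} {ls : List Level} (C : Cert φ γ (d + 3) ns ts L ls) {S : List (List ℕ)} (m : G)
    (h : ∀ w ∈ S, φ (ev (ext γ) w) (φ m 0) = φ m 0) :
    φ m 0 ∈ (Finset.range (2 ^ (d + 3))).filter fun i => (fixM (d + 3) ns S).testBit i = true := by
  obtain ⟨w, -, rfl⟩ := exists_word (C.gen ▸ Subgroup.mem_top m : m ∈ gp γ L)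
  have h1 := C.M.ev_lt w (Nat.two_pow_pos (d + 3))
  generalize φ (ev (ext γ) w) 0 = p at h h1
  refine Finset.mem_filter.2 ⟨Finset.mem_range.2 h1, ?_⟩
  have h2 : (List.rec 0 (fun w _ ih => Nat.lor (movedM (d + 3) ns w) ih) S : ℕ).testBit p = false := by
    induction S with
    | nil => simp
    | cons u S ih =>
      show (movedM (d + 3) ns u ||| _).testBit p = false
      rw [Nat.testBit_or, movedM_sound C.M u (h u (by simp)), ih fun w hw => h w (by simp [hw])]
      rfl
  rw [fixM, xor_eq, Nat.testBit_xor, h2, msk_eq, Nat.testBit_two_pow_sub_one]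
  simpa using h1

theorem fixesB_complete {φ : G →* Perm ℕ} {γ : ℕ → G} {k : ℕ} {ns : List Net} {ts : List Tab}
    (M : Model φ γ k ns ts) {w F : List ℕ} (hF : ptsOK k F = true)
    (h : ∀ b ∈ F, φ (ev (ext γ) w) b = b) : fixesB k ts w F = true := allL_iff.2 fun b hb => by
  rw [msk_eq, M.ap w (ptsOK_lt hF hb), h b hb]
  exact Nat.beq_refl b

theorem gw_elem {φ : G →* Perm ℕ} {γ : ℕ → G} {k : ℕ} {ns : List Net} {ts : List Tab}
    (M : Model φ γ k ns ts) {B : List ℕ} (hB : IsBase φ ⊤ B) (hp : ptsOK k B = true)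
    {S : List (List ℕ)} (h : (allL S fun u => fixesB k ts (app u u) B &&
      allL S fun v => eqB k ts B (app u v) (app v u)) = true) :
    (∀ a ∈ gw γ S, ∀ b ∈ gw γ S, a * b = b * a) ∧ ∀ a ∈ gw γ S, a * a = 1 := by
  simp only [allL_iff, Bool.and_eq_true] at h
  have h1 : ∀ a ∈ gw γ S, ∀ b ∈ gw γ S, a * b = b * a := by
    have h2 : ∀ u ∈ S, gw γ S ≤ Subgroup.centralizer {ev (ext γ) u} := fun u hu => gw_le fun v hv => by
      have := eqB_sound M hB hp trivial trivial ((h u hu).2 v hv)
      rw [ev_app, ev_app] at this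
      exact Subgroup.mem_centralizer_singleton_iff.2 this.symm
    intro a ha b hb
    have h3 : gw γ S ≤ Subgroup.centralizer {b} := gw_le fun u hu =>
      Subgroup.mem_centralizer_singleton_iff.2
        (Subgroup.mem_centralizer_singleton_iff.1 (h2 u hu hb)).symm
    exact Subgroup.mem_centralizer_singleton_iff.1 (h3 ha)
  refine ⟨h1, fun a ha => ?_⟩
  induction ha using Subgroup.closure_induction with
  | mem x hx =>
    obtain ⟨u, hu, rfl⟩ := hx
    rw [← ev_app]; exact hB _ trivial (fixesB_sound M hp (h u hu).1)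
  | one => exact one_mul _
  | mul x y hx hy h2 h3 => rw [mul_assoc, ← mul_assoc y, h1 y hy x hx, mul_assoc, h3, mul_one, h2]
  | inv x _ h2 => rw [← mul_inv_rev, h2, inv_one]

end Cfsg.Agent.CGT
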