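import Cfsg.Agent.J4C.A.Dce
import Cfsg.Agent.J4C.B.Dce
import Cfsg.Agent.J4C.C.Dce
import Cfsg.Agent.J4C.R.Dce
import Cfsg.Agent.J4C.Cen
import Cfsg.Agent.J4C.Mul2
import Cfsg.Agent.J4C.Mul3
import Cfsg.Agent.J4C.RelJ
import Cfsg.Agent.J4C.Lib2
import Cfsg.Prelude.Def_Spor_J4

set_option autoImplicit false
set_option Elab.async false
set_option maxRecDepth 100000
set_option linter.all false

namespace Cfsg.Agent.J4C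
open Cfsg.Agent.CGT

open Cfsg.Agent.Mult

noncomputable def gens : List Cfsg.Spor.J4.Gen := [.x, .y, .t]
theorem gens_all : ∀ x, x ∈ gens := by intro x; cases x <;> decide
theorem gens_nodup : gens.Nodup := by decide
/-- the generators -/
noncomputable abbrev δ : ℕ → Cfsg.Spor.J4 := pγ gens Cfsg.Spor.J4.edges Cfsg.Spor.J4.extra
noncomputable def DR : List (List ℕ) := [[0, 0], [2, 2, 2], [0, 2, 0, 2, 0, 2, 0, 2, 0, 2, 0, 2, 0, 2, 0, 2, 0, 2, 0, 2, 0, 2, 0, 2, 0, 2, 0, 2, 0, 2, 0, 2, 0, 2, 0, 2, 0, 2, 0, 2, 0, 2, 0, 2, 0, 2], [1, 3, 0, 2, 1, 3, 0, 2, 1, 3, 0, 2, 1, 3, 0, 2, 1, 3, 0, 2, 1, 3, 0, 2, 1, 3, 0, 2, 1, 3, 0, 2, 1, 3, 0, 2, 1, 3, 0, 2, 1, 3, 0, 2, 1, 3, 0, 2], [1, 3, 1, 3, 0, 2, 0, 2, 1, 3, 1, 3, 0, 2, 0, 2, 1, 3, 1, 3, 0, 2, 0, 2, 1, 3, 1, 3, 0, 2, 0, 2, 1, 3, 1, 3, 0, 2, 0, 2], [0, 2, 0, 2,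 0, 3, 0, 2, 0, 3, 0, 2, 0, 3, 0, 2, 0, 2, 0, 3, 0, 2, 0, 3, 0, 2, 0, 3, 0, 2, 0, 2, 0, 3, 0, 2, 0, 3, 0, 2, 0, 3, 0, 2, 0, 2, 0, 3, 0, 2, 0, 3, 0, 2, 0, 3], [0, 2, 0, 2, 0, 3, 0, 2, 0, 2, 0, 3, 0, 2, 0, 2, 0, 3, 0, 2, 0, 3, 0, 3, 0, 2, 0, 3, 0, 3, 0, 2, 0, 3, 0, 3], [4, 4], [5, 3, 1, 3, 1, 3, 1, 2, 1, 2, 1, 3, 1, 3, 4, 2, 0, 2, 0, 3, 0, 3, 0, 2, 0, 2, 0, 2], [5, 1, 4, 0], [2, 1, 2, 1, 3, 1, 2, 1, 3, 4, 2, 0, 3, 0, 2, 0, 3, 0, 2, 1, 2, 1, 3, 1, 2, 1, 3, 4, 2, 0, 3, 0, 2, 0, 3, 0, 2, 1, 2, 1, 3, 1, 2, 1, 3, 4, 2, 0, 3, 0, 2, 0, 3, 0], [2, 0, 2, 0, 2, 0, 2, 2, 0, 2, 0, 2, 0, 2, 2, 0, 2, 0, 2, 0, 2, 4, 3, 3, 1, 3, 1, 3, 1, 3, 1, 3, 1, 3, 1, 3, 3, 1, 3, 1, 3, 1, 4, 0, 2, 0, 2, 0, 2, 2, 0, 2, 0, 2, 0, 2, 0, 2, 0, 2, 0, 2, 2, 2, 0, 2, 0, 2, 0, 2, 2, 0, 2, 0, 2, 0, 2, 2, 0, 2, 0, 2, 0, 2, 4, 3, 3, 1, 3, 1, 3,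 1, 3, 1, 3, 1, 3, 1, 3, 3, 1, 3, 1, 3, 1, 4, 0, 2, 0, 2, 0, 2, 2, 0, 2, 0, 2, 0, 2, 0, 2, 0, 2, 0, 2, 2]]
theorem DR_eq : defR gens Cfsg.Spor.J4.edges Cfsg.Spor.J4.extra = DR := by decide +kernel
noncomputable def Wd : List (List ℕ) := [[2], [4], [0]]
noncomputable def ZL : List (List ℕ) := [[0, 0], [1, 5, 3, 5, 3, 5, 3, 4, 3, 4, 3, 5, 3, 5, 0, 4, 2, 4, 2, 5, 2, 5, 2, 4, 2, 4, 2, 4], [1, 3, 0, 2], [4, 3, 4, 3, 5, 3, 4, 3, 5, 0, 4, 2, 5, 2, 4, 2, 5, 2, 4, 3, 4, 3, 5, 3, 4, 3, 5, 0, 4, 2, 5, 2, 4, 2, 5, 2, 4, 3, 4, 3, 5, 3, 4, 3, 5, 0, 4, 2, 5, 2, 4, 2, 5, 2], [4, 2, 4, 2, 4, 2, 4, 4, 2, 4, 2, 4, 2, 4, 4, 2, 4, 2, 4, 2, 4, 0, 5, 5, 3, 5, 3, 5, 3, 5, 3, 5, 3, 5, 3, 5, 5, 3, 5, 3, 5, 3, 0, 2, 4, 2, 4, 2, 4, 4, 2, 4, 2, 4, 2, 4, 2, 4, 2, 4, 2, 4, 4, 4, 2, 4, 2, 4, 2, 4, 4, 2, 4, 2, 4, 2, 4, 4, 2, 4, 2, 4,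 2, 4, 0, 5, 5, 3, 5, 3, 5, 3, 5, 3, 5, 3, 5, 3, 5, 5, 3, 5, 3, 5, 3, 0, 2, 4, 2, 4, 2, 4, 4, 2, 4, 2, 4, 2, 4, 2, 4, 2, 4, 2, 4, 4]]
noncomputable def ZR : List (List ℕ) := [[0, 0], [1, 21, 0, 20], [1, 3, 0, 2], [10, 4, 8, 2, 0, 12, 10, 13, 0, 12, 10, 13, 0, 13, 2, 9], [10, 15, 5, 6, 2, 0, 20, 18, 13, 10, 2, 0, 5, 10, 14, 16, 19, 10, 0, 20, 18, 13, 10, 2, 0, 13, 16, 2, 4, 12]]
theorem hD : Holds (ext δ) DR := DR_eq ▸ pres_holds gens_all _ _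
theorem rho : ∃ ρ : K →* Cfsg.Spor.J4, ∀ j, ρ (γ j) = wg δ W10 j :=
  pg_lift (fun j hj => wg_of_le _ hj) (rr_of (hD.subR (by decide +kernel)))
theorem hW {ρ : K →* Cfsg.Spor.J4} (hρ : ∀ j, ρ (γ j) = wg δ W10 j) : δ = wg (zt ρ γ (δ 2)) Wd := by
  funext j
  rcases j with _ | _ | _ | j
  · exact ((ev_singleton _ _).trans ((ext_two_mul _ 1).trans ((hρ 0).trans
      ((ev_singleton _ _).trans (ext_two_mul _ 0))))).symm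
  · exact ((ev_singleton _ _).trans ((ext_two_mul _ 2).trans ((hρ 1).trans
      ((ev_singleton _ _).trans (ext_two_mul _ 1))))).symm
  · exact ((ev_singleton _ _).trans (ext_zt_zero ρ γ (δ 2))).symm
  · rw [wg_of_le _ (show Wd.length ≤ j + 3 from Nat.le_add_left 3 j), δ, pγ,
      List.getElem?_eq_none (show gens.length ≤ j + 3 from Nat.le_add_left 3 j)]
theorem hZ {φ : K →* Equiv.Perm ℕ} (C : Cert φ γ 12 m_ns m_ts [0, 2, 4, 6, 8, 10, 12, 14, 16, 18] c_ls) {ρ : K →* Cfsg.Spor.J4}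
    (hρ : ∀ j, ρ (γ j) = wg δ W10 j) : Holds (ext (zt ρ γ (δ 2))) ZR :=
  Holds.zeq (U := ZL) C.M C.base (by decide +kernel) (pres_zr hD (hW hρ) (by decide +kernel)) (by decide +kernel)
theorem hgen {ρ : K →* Cfsg.Spor.J4} (hρ : ∀ j, ρ (γ j) = wg δ W10 j) :
    Subgroup.closure (Set.range ρ ∪ {δ 2}) = ⊤ :=
  pres_gen_zt (pres_gen gens_all _ _ (L := [0, 2, 4]) (by decide +kernel)) (hW hρ)
theorem closedK : Cover.Closed K := by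
  obtain ⟨φ, C⟩ := cert
  haveI := C.fin
  exact Cover.closed_of_mult (triv_of_bounds card_eq [(2, 10), (3, 3), (5, 1), (7, 1), (11, 1), (23, 1)] (by decide +kernel) (by decide +kernel) (by
    simp only [List.forall_mem_cons, List.not_mem_nil, IsEmpty.forall_iff, implies_true, and_true]
    exact ⟨.inr (u2_pb C.M C.base card_eq),
      .inr (u3_pb C.M C.base card_eq),
      .inl (by decide),
      .inl (by decide),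
      .inl (by decide),
      .inl (by decide)⟩))
theorem closed : Cover.Closed Cfsg.Spor.J4 := by
  obtain ⟨φ, C⟩ := cert
  haveI := C.fin
  obtain ⟨ρ, hρ⟩ := rho
  obtain ⟨a, u, v, h1, h2, h3, h4⟩ := a_data C
  exact Dce.closed_of (D := A.dd) C.M C.base (by decide +kernel) (hZ C hρ)
    (i0 := 0) (pj := [1, 2]) (rj := [(3, 4), (4, 5), (0, 0)]) (by decide +kernel) A.dd_t (by decide +kernel)
    (fun hy => A.dd_up hy) (section_of closedK h1 (by norm_num) h2 h3 h4 ρ)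
    (fun Γ _ σ z' h => hlift_words gens_all gens_nodup C.M C.base (by decide +kernel) C.gen
      (W := W10) (Wd := Wd) (ZL := ZL) (fun j hj => pg_one _ hj) hρ (DR_eq ▸ (by decide +kernel)) Γ σ z'
      (Holds.zeq C.M C.base (by decide +kernel) h (by decide +kernel))) (hgen hρ)
/-- the relators of the point stabiliser -/
noncomputable def RK2 : List (List ℕ) := R.ZR2 ++ RR.map sh
/-- the point stabiliser -/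
abbrev K2 : Type := PG 11 RK2
/-- its generators -/
noncomputable abbrev γ2 : ℕ → K2 := pgγ 11 RK2
theorem sig2 : ∃ σ : K →* K2, zt σ γ (γ2 0) = γ2 := pg_ext 10 RR R.ZR2
theorem gen_top2 : gp γ2 [0, 2, 4, 6, 8, 10, 12, 14, 16, 18, 20] = ⊤ := pg_gen _ (by decide +kernel)
theorem core2 {φ : K →* Equiv.Perm ℕ} (C : Cert φ γ 11 S.m_ns S.m_ts [0, 2, 4, 6, 8, 10, 12, 14, 16, 18] S.c_ls) {σ : K →* K2}
    (hσ : zt σ γ (γ2 0) = γ2) : B.dd.Hyp (Dce.ctx0.{0, 0, 0} φ γ σ (γ2 0) σ.range) S.m_ns ∧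
      ∀ g, B.dd.InX (Dce.ctx0.{0, 0, 0} φ γ σ (γ2 0) σ.range) [0, 1, 2] g := by
  have hZ : Holds (ext (zt σ γ (γ2 0))) R.ZR2 := fun r hr => by
    rw [hσ]; exact pg_holds _ _ _ (List.mem_append_left _ hr)
  have hy : B.dd.Hyp (Dce.ctx0.{0, 0, 0} φ γ σ (γ2 0) σ.range) S.m_ns :=
    Dce.hyp0 (D := B.dd) (H := σ.range) C.M C.base (by decide +kernel) (fun h => ⟨h, rfl⟩) hZ
      (i0 := 0) (pj := [1, 2]) (rj := [(3, 0), (0, 0)]) (by decide +kernel)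
  have hA : ∀ a, (Dce.ctx0.{0, 0, 0} φ γ σ (γ2 0) σ.range).ι a ∈ σ.range := fun _ => σ.range.one_mem
  exact ⟨hy, fun g => Dce.all_inX hy hA (by decide) (B.dd_all hy hA (S.stab C) C.orbit0.2)
    (gen_zt (hσ.symm ▸ gen_top2)).ge (Subgroup.mem_top g)⟩
theorem fin2 : Finite K2 := by
  obtain ⟨φ, C⟩ := S.cert
  haveI : Finite K := C.fin
  obtain ⟨σ, hσ⟩ := sig2
  haveI : Finite (Dce.ctx0.{0, 0, 0} φ γ σ (γ2 0) σ.range).H :=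
    Finite.of_surjective _ σ.rangeRestrict_surjective
  exact Dce.finite_of_inX (core2 C hσ).2
theorem jmap {φ : K →* Equiv.Perm ℕ} (C : Cert φ γ 12 m_ns m_ts [0, 2, 4, 6, 8, 10, 12, 14, 16, 18] c_ls) {ρ : K →* Cfsg.Spor.J4}
    (hρ : ∀ j, ρ (γ j) = wg δ W10 j) : ∃ j : K2 →* Cfsg.Spor.J4,
      ∀ i, j (γ2 i) = zt ρ γ (ev (ext (zt ρ γ (δ 2))) R.Ww) i := by
  have hy : R.dd.Hyp (Dce.ctx0.{0, 0, 0} φ γ ρ (δ 2) ⊤) m_ns :=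
    Dce.hyp0 (D := R.dd) (H := ⊤) C.M C.base (by decide +kernel) (fun _ => trivial) (hZ C hρ)
      (i0 := 0) (pj := [1, 2]) (rj := [(3, 4), (4, 5), (0, 0)]) (by decide +kernel)
  exact pg_ext_lift ρ ((R.dd_up hy (Dce.ctx0_τ _ _ _ _ _)).goals hy (Dce.ctx0_τ _ _ _ _ _) R.dd_g)
theorem core {φ : K →* Equiv.Perm ℕ} (C : Cert φ γ 12 m_ns m_ts [0, 2, 4, 6, 8, 10, 12, 14, 16, 18] c_ls) {ρ : K →* Cfsg.Spor.J4}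
    (hρ : ∀ j, ρ (γ j) = wg δ W10 j) {j : K2 →* Cfsg.Spor.J4}
    (hj : ∀ i, j (γ2 i) = zt ρ γ (ev (ext (zt ρ γ (δ 2))) R.Ww) i) :
    J4C.C.dd.Hyp (Dce.ctx0.{0, 0, 0} φ γ ρ (δ 2) j.range) m_ns ∧
      ∀ g, J4C.C.dd.InX (Dce.ctx0.{0, 0, 0} φ γ ρ (δ 2) j.range) [0, 1, 3, 4, 5, 6, 7, 8, 9, 10, 11, 12, 13, 14, 15, 16, 17, 18, 19, 20] g := by
  have sub : ∀ h, ρ h ∈ j.range := fun h => by
    have : gp γ [0, 2, 4, 6, 8, 10, 12, 14, 16, 18] ≤ j.range.comap ρ := gp_le fun a _ => ext_mem ⟨_, hj (a / 2 + 1)⟩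
    exact this (C.gen ▸ Subgroup.mem_top h)
  have hy : J4C.C.dd.Hyp (Dce.ctx0.{0, 0, 0} φ γ ρ (δ 2) j.range) m_ns := by
    refine Dce.Hyp.of_tri (p := [0, 10, 19, 5, 13, 19, 14]) (q := [2, 0, 3])
      (Dce.hyp0 (D := { J4C.C.dd with ax := [] }) (H := j.range) C.M C.base (by decide +kernel) sub (hZ C hρ)
        (i0 := 0) (pj := [1, 2]) (rj := [(3, 4), (4, 5), (0, 0)]) (by decide +kernel)) (by decide +kernel) ?_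
    have h1 : ev (ext (zt ρ γ (δ 2))) (0 :: sh [0, 10, 19, 5, 13, 19, 14] ++ 0 :: sh [2, 0, 3] ++ 0 :: sh [0, 4, 18, 5, 6, 17, 10, 0]) ∈ j.range :=
      ⟨_, hj 0⟩
    simp only [List.cons_append, ev_cons, ev_append, ev_sh, ext_zt_zero, ← mul_assoc] at h1
    exact (j.range.mul_mem_cancel_right (sub _)).1 h1
  have hA : ∀ a, (Dce.ctx0.{0, 0, 0} φ γ ρ (δ 2) j.range).ι a ∈ j.range := fun _ => j.range.one_mem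
  exact ⟨hy, fun g => Dce.all_inX hy hA (by decide) (J4C.C.dd_all hy hA (stab C) C.orbit0.2)
    (hgen hρ).ge (Subgroup.mem_top g)⟩
theorem finite : Finite Cfsg.Spor.J4 := by
  obtain ⟨φ, C⟩ := cert
  haveI := C.fin
  haveI := fin2
  obtain ⟨ρ, hρ⟩ := rho
  obtain ⟨j, hj⟩ := jmap C hρ
  haveI : Finite (Dce.ctx0.{0, 0, 0} φ γ ρ (δ 2) j.range).H :=
    Finite.of_surjective _ j.rangeRestrict_surjective
  exact Dce.finite_of_inX (core C hρ hj).2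
theorem mult : Cfsg.HasCyclicSchurMultiplier Cfsg.Spor.J4 1 :=
  haveI := finite
  closed.mult

end Cfsg.Agent.J4C
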