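import Cfsg.Agent.CGT.DceMul

set_option autoImplicit false
set_option Elab.async false
set_option maxRecDepth 100000
set_option linter.all false

namespace Cfsg.Agent.J4C
open Cfsg.Agent.CGT

noncomputable def RR : List (List ℕ) := [[0, 0], [2, 2, 2], [0, 2, 0, 2, 0, 2, 0, 2, 0, 2, 0, 2, 0, 2, 0, 2, 0, 2, 0, 2, 0, 2, 0, 2, 0, 2, 0, 2, 0, 2, 0, 2, 0, 2, 0, 2, 0, 2, 0, 2, 0, 2, 0, 2, 0, 2], [1, 3, 0, 2, 1, 3, 0, 2, 1, 3, 0, 2, 1, 3, 0, 2, 1, 3, 0, 2, 1, 3, 0, 2, 1, 3, 0, 2, 1, 3, 0, 2, 1, 3, 0, 2, 1, 3, 0, 2, 1, 3, 0, 2, 1, 3, 0, 2], [1, 3, 1, 3, 0, 2, 0, 2, 1, 3, 1, 3, 0, 2, 0, 2, 1, 3, 1, 3, 0, 2, 0, 2, 1, 3, 1, 3, 0, 2, 0, 2, 1, 3, 1, 3, 0, 2, 0, 2], [0, 2, 0, 2, 0, 3, 0, 2, 0, 3, 0, 2, 0, 3, 0, 2, 0, 2,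 0, 3, 0, 2, 0, 3, 0, 2, 0, 3, 0, 2, 0, 2, 0, 3, 0, 2, 0, 3, 0, 2, 0, 3, 0, 2, 0, 2, 0, 3, 0, 2, 0, 3, 0, 2, 0, 3], [0, 2, 0, 2, 0, 3, 0, 2, 0, 2, 0, 3, 0, 2, 0, 2, 0, 3, 0, 2, 0, 3, 0, 3, 0, 2, 0, 3, 0, 3, 0, 2, 0, 3, 0, 3], [4, 1, 3, 1, 3, 1, 2, 1], [6, 1, 2, 1, 3, 1, 3, 1, 3, 1], [8, 2, 1, 2, 1, 3, 1, 3, 1, 3], [10, 2, 1, 3, 1, 3, 1, 2, 1, 3], [12, 3, 1, 2, 1, 3, 1, 3, 1, 2], [14, 3, 1, 3, 1, 2, 1, 3, 1, 3, 1, 2, 1, 2], [16, 3, 1, 3, 1, 3, 1, 3, 1, 2, 1, 2, 1, 2], [18, 3, 1, 3, 1, 3, 1, 2, 1, 2, 1, 3, 1, 3], [4, 4, 4], [12, 12, 12], [14, 14, 14], [8, 8, 8], [10, 10, 10], [16, 16, 16], [4, 12, 5, 15], [4, 7, 7, 11, 14], [4, 12, 7, 7, 11], [4, 14, 12, 17, 10], [8, 13, 17, 13, 17], [8, 11, 14, 10, 9, 11],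 [8, 16, 15, 17, 14, 17], [8, 13, 15, 17, 14, 12], [4, 6, 9, 11, 8, 7], [12, 16, 12, 16, 15, 17, 14], [4, 6, 11, 4, 7, 7, 7], [4, 7, 7, 9, 10, 8, 11], [4, 8, 10, 12, 14, 16, 6], [4, 7, 7, 7, 9, 13, 7], [4, 6, 6, 6, 13, 7, 7, 7], [4, 6, 6, 10, 8, 15, 17, 12], [4, 13, 16, 12, 4, 13, 16, 12], [8, 15, 16, 14, 8, 15, 16, 14], [8, 16, 14, 10, 8, 16, 14, 10], [8, 14, 9, 10, 8, 14, 9, 10], [4, 6, 6, 13, 16, 15, 17, 12, 9, 11], [8, 11, 8, 11, 8, 11, 8, 11, 8, 11], [14, 17, 14, 17, 14, 17, 14, 17, 14, 17], [4, 6, 6, 5, 13, 15, 17, 12, 16, 14], [4, 6, 6, 9, 11, 6, 6, 10, 7, 7], [4, 6, 6, 6, 10, 9, 11, 7, 5, 13], [6, 6, 6, 6, 6, 6, 6, 6, 6, 6, 6, 6, 6, 6, 6, 6, 6, 6, 6, 6, 6, 6, 6], [8, 15, 8, 15, 8, 15, 8, 15]]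

end Cfsg.Agent.J4C
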